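import Cfsg.Agent.H65.Inv.Z.Tree

/-!
The step of the induction across a radical of Heisenberg type.
-/

set_option autoImplicit false
set_option linter.unusedSectionVars false

open Cfsg.Lie Cfsg.Agent.H46

namespace Cfsg.Agent.H65.Inv.Z

variable {D : ChevalleyDatum}

/-- The checks of a leaf. -/
noncomputable def finOk (G : Good D) (E : Swap) (P Q : List ℕ) (L' : List (List ℕ)) (S : List ℕ) (wz : List ℕ)
    (T w : List ℕ) : Bool :=
  leafOk G E (P ++ (Q ++ [zr D])) L' S T w &&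
    match T with
    | [] => leafOk G E (P ++ (Q ++ [zr D])) L' S [zr D] wz
    | c :: T' => Q.any (partOk G (S ++ T') c)

/-- The checks of one input set. -/
noncomputable def setOk (G : Good D) (E : Swap) (P Q : List ℕ) (L' : List (List ℕ)) (S wz : List ℕ) (t : Tree) : Bool :=
  S.all (fun s => zOk G s && !(Q ++ [zr D]).contains s) && killOk G Q S (restR G Q S) &&
    treeOk G P Q S (finOk G E P Q L' S wz) Q.length [] (restR G Q S) t

/-- The checks of the radical. -/
noncomputable def radOk (G : Good D) (P Q : List ℕ) : Bool :=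
  qOk G Q && decide Q.Nodup &&
    decide (Q = (List.range' (D.nroots / 2) (D.nroots - D.nroots / 2)).filter (fun r => Q.contains r)) &&
    posB G (zr D) &&
    P.all (fun p => posB G p && !(Q ++ [zr D]).contains p) &&
    P.all (fun r => P.all fun s => decide (r = s) || (ct G r s).all fun c => P.contains c.1) &&
    (Q ++ [zr D]).all (fun r => (Q ++ [zr D]).all fun s =>
      decide (r = s) || (ct G r s).all fun c => (Q ++ [zr D]).contains c.1) &&
    (pmRoots G P).all fun d => shiftOk G d Q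

variable (G : Good D) {F : Type*} [Field F] [CharP F 2]

variable [Fintype F]

/-- One step of the induction across a radical of Heisenberg type. -/
theorem reduces_heis {E : Swap} (hE : swapOk G E = true) {P Q : List ℕ} {L L' : List (List ℕ)}
    (hrad : radOk G P Q = true)
    (hsets : ∀ S ∈ L, ∃ wz t, setOk G E P Q L' S wz t = true) (hL : Reduces F G P L) :
    Reduces F G (P ++ (Q ++ [zr D])) L' := by
  simp only [radOk, Bool.and_eq_true, decide_eq_true_eq, List.all_eq_true, Bool.not_eq_true', List.contains_eq_mem,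
    decide_eq_false_iff_not, Bool.or_eq_true, ct_eq, pr_eq, ngb_eq, posB_eq] at hrad
  obtain ⟨⟨⟨⟨⟨⟨⟨hQ, hnd⟩, hord'⟩, hzpos⟩, hP⟩, hPc⟩, hQc⟩, hDs⟩ := hrad
  have hord : Q = (List.range' (D.nroots / 2) (D.nroots - D.nroots / 2)).filter (fun r => Q.contains r) := by
    simpa only [List.contains_eq_mem] using hord'
  set U := Q ++ [zr D] with hU
  have hn0 : 0 < D.nroots := lt_of_le_of_lt (Nat.zero_le _) hzpos.1
  have hzmem : ∀ t : F, G.xg (zr D) t ∈ G.posSub (F := F) {r | r ∈ U} := fun t =>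
    G.xg_mem_posSub (S := {r | r ∈ U}) hzpos (by simp [hU]) t
  have hqmem : ∀ a : ℕ → F, Inv.qP G Q a ∈ G.posSub (F := F) {r | r ∈ U} := fun a =>
    Subgroup.list_prod_mem _ fun x hx => by
      obtain ⟨r, hr, rfl⟩ := List.mem_map.1 hx
      exact G.xg_mem_posSub (S := {r | r ∈ U}) (q_pos G hQ hr) (List.mem_append_left _ hr) _
  have hrep : ∀ g ∈ G.posSub (F := F) {r | r ∈ U}, g ∈ cen G F ∧ ∃ a, cls G g = qP G Q a := by
    intro g hg
    induction hg using Subgroup.closure_induction with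
    | mem x hx =>
      obtain ⟨r, t, ⟨-, hr⟩, rfl⟩ := hx
      rcases List.mem_append.1 hr with hr | hr
      · exact ⟨xg_mem_cen G (q_zOk G hQ hr) t, _, (qP_single G hQ hnd hr t).symm⟩
      · obtain rfl := List.mem_singleton.1 hr
        exact ⟨xg_mem_cen G (z_ok G hn0) t, fun _ => 0,
          by rw [qP_zero, cls_z G t (xg_mem_cen G (z_ok G hn0) t)]⟩
    | one => exact ⟨one_mem _, fun _ => 0, by rw [qP_zero, cls_one]⟩
    | mul x y _ _ hx hy =>
      obtain ⟨hx, a, ea⟩ := hx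
      obtain ⟨hy, b, eb⟩ := hy
      exact ⟨mul_mem hx hy, a + b, by rw [cls_mul G hx hy, ea, eb, qP_mul G hQ (fun _ h => h) a b]⟩
    | inv x _ hx =>
      obtain ⟨hx, a, ea⟩ := hx
      refine ⟨inv_mem hx, a, ?_⟩
      rw [cls_inv G hx, ea]
      refine inv_eq_of_mul_eq_one_right ?_
      rw [qP_mul G hQ fun _ h => h]
      exact (qP_congr G (b := fun _ => (0 : F)) fun r _ => CharTwo.add_self_eq_zero (a r)).trans (qP_zero G Q)
  have hback : ∀ g ∈ cen G F, ∀ a : ℕ → F, cls G g = qP G Q a →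
      ∃ t : F, g = Inv.qP G Q a * G.xg (zr D) t := fun g hg a e => by
    obtain ⟨h1, h2⟩ := cls_qP G hQ Q (fun _ h => h) a
    exact cls_eq G h1 hg (h2.trans e.symm)
  have hDz : ∀ d ∈ pmRoots G P, zOk G d = true := fun d hd => by
    have h := hDs d hd
    simp only [shiftOk, Bool.and_eq_true, ct_eq, pr_eq, ngb_eq, posB_eq] at h
    exact h.1
  have hpm : ∀ r, r < D.nroots → (r ∈ P ∨ D.neg r ∈ P) → r ∈ pmRoots G P := fun r hr h => by
    simp only [pmRoots, List.mem_append, List.mem_map, ct_eq, pr_eq, ngb_eq, posB_eq]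
    exact h.imp id fun h => ⟨_, h, G.neg_neg hr⟩
  have hcenP : rootGrp F G P ≤ cen G F := (Subgroup.closure_le _).2 fun g ⟨r, t, hr, hrP, e⟩ =>
    e ▸ xg_mem_cen G (hDz r (hpm r hr hrP)) t
  have hnorm : rootGrp F G P ≤ Subgroup.normalizer (G.posSub (F := F) {r | r ∈ U} : Set (GL D.Idx F)) := by
    refine (Subgroup.closure_le _).2 ?_
    rintro g ⟨r, t, hr, hrP, rfl⟩
    have hd := hDs r (hpm r hr hrP)
    have hdz := hDz r (hpm r hr hrP)
    have key : ∀ s : F, ∀ x ∈ G.posSub (F := F) {r | r ∈ U}, G.xg r s * x * (G.xg r s)⁻¹ ∈ G.posSub {r | r ∈ U} := by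
      intro s x hx
      obtain ⟨hxc, a, ea⟩ := hrep x hx
      have hd' := xg_mem_cen G hdz s
      obtain ⟨t', e⟩ := hback _ (mul_mem (mul_mem hd' hxc) (inv_mem hd')) _
        (show cls G (G.xg r s * x * (G.xg r s)⁻¹) = qP G Q _ by
          rw [cls_mul G (mul_mem hd' hxc) (inv_mem hd'), cls_mul G hd' hxc, cls_inv G hd', ea]
          exact conj_qP G hQ hnd hd s a)
      rw [e]
      exact mul_mem (hqmem _) (hzmem t')
    refine Subgroup.mem_normalizer_iff.2 fun x => ⟨key t x, fun hx => ?_⟩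
    have h := key (-t) _ hx
    rw [← G.xg_inv] at h
    simpa [mul_assoc] using h
  intro u hu hu2
  have hle : G.posSub (F := F) {r | r ∈ P ++ U} ≤ G.posSub {r | r ∈ P} ⊔ G.posSub {r | r ∈ U} := by
    refine (Subgroup.closure_le _).2 ?_
    rintro g ⟨r, t, ⟨hr, hrS⟩, rfl⟩
    rcases List.mem_append.1 hrS with h | h
    · exact Subgroup.mem_sup_left (G.xg_mem_posSub (S := {r | r ∈ P}) hr h t)
    · exact Subgroup.mem_sup_right (G.xg_mem_posSub (S := {r | r ∈ U}) hr h t)
  have hu' := hle hu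
  rw [← SetLike.mem_coe, Subgroup.coe_mul_of_left_le_normalizer_right _ _ ((posSub_le_rootGrp G P).trans hnorm)] at hu'
  obtain ⟨v, hv, q, hq, rfl⟩ := hu'
  have hv2 : v * v = 1 := by
    have h1 : v⁻¹ * q * v ∈ G.posSub (F := F) {r | r ∈ U} := by
      simpa using (Subgroup.mem_normalizer_iff.1 (inv_mem (hnorm (posSub_le_rootGrp G P hv))) q).1 hq
    have h2 : v * v ∈ G.posSub (F := F) {r | r ∈ U} := by
      have e : v * v * ((v⁻¹ * q * v) * q) = 1 := by rw [← hu2]; group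
      rw [eq_inv_of_mul_eq_one_left e]
      exact inv_mem (mul_mem h1 hq)
    have hPcl : G.PosClosed {r | r ∈ P} := fun r s _ _ hr hs hne c hc =>
      ((hPc r hr s hs).resolve_left (fun e => hne e.symm) c hc)
    have hUcl : G.PosClosed {r | r ∈ U} := fun r s _ _ hr hs hne c hc =>
      ((hQc r hr s hs).resolve_left (fun e => hne e.symm) c hc)
    have h3 : v * v ∈ G.posSub (F := F) ({r | r ∈ P} ∩ {r | r ∈ U}) :=
      (G.posSub_inf (F := F) hPcl hUcl) ▸ Subgroup.mem_inf.2 ⟨mul_mem hv hv, h2⟩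
    have hbot : G.posSub (F := F) ({r | r ∈ P} ∩ {r | r ∈ U}) = ⊥ := by
      rw [eq_bot_iff]
      refine (Subgroup.closure_le _).2 ?_
      rintro g ⟨r, t, ⟨-, h1, h2⟩, -⟩
      exact absurd h2 (hP r h1).2
    rwa [hbot, Subgroup.mem_bot] at h3
  obtain ⟨h, hh, S, hS, e⟩ := hL v hv hv2
  obtain ⟨wz, tr, hset⟩ := hsets S hS
  simp only [setOk, Bool.and_eq_true, List.all_eq_true, Bool.not_eq_true', List.contains_eq_mem,
    decide_eq_false_iff_not, ct_eq, pr_eq, ngb_eq, posB_eq] at hset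
  obtain ⟨⟨hS', hkill⟩, htree⟩ := hset
  have hSz : ∀ s ∈ S, zOk G s = true := fun s hs => (hS' s hs).1
  have hSn : ∀ s ∈ S, s < D.nroots := fun s hs => by
    have := hSz s hs
    simp only [zOk, Bool.and_eq_true, decide_eq_true_eq, ct_eq, pr_eq, ngb_eq, posB_eq] at this
    exact this.1
  obtain ⟨hSc, hScls⟩ := cls_prodX G (F := F) hSz
  obtain ⟨hqc, a, ha⟩ := hrep (h * q * h⁻¹) ((Subgroup.mem_normalizer_iff.1 (hnorm hh) q).1 hq)
  have hconj : h * (v * q) * h⁻¹ = Inv.prodX G S * (h * q * h⁻¹) := by rw [← e]; group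
  have hsq : Inv.prodX G S * Inv.prodX G S = (1 : GL D.Idx F) := by
    rw [← e, show h * v * h⁻¹ * (h * v * h⁻¹) = h * (v * v) * h⁻¹ by group, hv2, mul_one, mul_inv_cancel]
  have hSS : prodX G S * prodX G S = (1 : Qg G F) := by
    rw [← hScls, ← cls_mul G hSc hSc, hsq, cls_one]
  have hinv : prodX G S * qP G Q a * (prodX G S * qP G Q a) = (1 : Qg G F) := by
    rw [← hScls, ← ha, ← cls_mul G hSc hqc, ← cls_mul G (mul_mem hSc hqc) (mul_mem hSc hqc), ← hconj,
      show h * (v * q) * h⁻¹ * (h * (v * q) * h⁻¹) = h * (v * q * (v * q)) * h⁻¹ by group, hu2, mul_one,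
      mul_inv_cancel, cls_one]
  obtain ⟨b, a1, e1, hsup1⟩ := kill_step G hQ hnd hord hkill hSS hinv
  have hsq0 : ∀ g ∈ cen G F, cls G g = prodX G S * qP G Q a → g * g = 1 := by
    intro g hg hgc
    obtain ⟨t, rfl⟩ := cls_eq G (mul_mem hSc hqc) hg (by rw [cls_mul G hSc hqc, hScls, ha, hgc])
    have hc : Commute (Inv.prodX G S * (h * q * h⁻¹)) (G.xg (zr D) t) :=
      (Subgroup.mem_centralizer_iff.1 (mul_mem hSc hqc) _ ⟨t, rfl⟩).symm
    rw [hc.symm.mul_mul_mul_comm, G.xg_add, CharTwo.add_self_eq_zero, G.xg_zero, mul_one, ← hconj,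
      show h * (v * q) * h⁻¹ * (h * (v * q) * h⁻¹) = h * (v * q * (v * q)) * h⁻¹ by group, hu2, mul_one,
      mul_inv_cancel]
  have hK : ∀ d ∈ pmRoots G P, ∀ z : F, G.xg d z ∈ rootGrp F G P := by
    intro d hd z
    simp only [pmRoots, List.mem_append, List.mem_map, ct_eq, pr_eq, ngb_eq, posB_eq] at hd
    rcases hd with hd | ⟨p, hp, rfl⟩
    · exact xg_mem_rootGrp G (hP d hd).1.1 (Or.inl hd) z
    · exact xg_mem_rootGrp G (G.neg_lt (hP p hp).1.1) (Or.inr (by rwa [G.neg_neg (hP p hp).1.1])) z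
  obtain ⟨T, w, hfin, k', hk', a2, e2, hTn, hTa, hsup2⟩ := tree_reduce G hQ hnd hord (P := P) hDs hSz
    (K := rootGrp F G P) hK (fun i hi => ng_mem_rootGrp G (hP _ (List.contains_iff_mem.1 hi)).1.1
      (List.contains_iff_mem.1 hi) 1)
    Q.length [] (restR G Q S) tr List.nodup_nil htree (fun x hx => absurd hx List.not_mem_nil)
    (fun x hx => (List.mem_filter.1 hx).1) (fun c hc => absurd hc List.not_mem_nil) a1
    (fun c hc => absurd hc List.not_mem_nil) (fun x hx _ hxR => hsup1 x hx hxR)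
    (lift_sq G hQ (K := ⊤) hsq0 (cls_mem G (Subgroup.mem_top _) (cls_qP G hQ Q (fun _ h => h) b).1)
      (by rw [(cls_qP G hQ Q (fun _ h => h) b).2]; exact e1))
  obtain ⟨k, hkP, hkc, rfl⟩ := exists_cls G hk'
  have hTQ : ∀ c ∈ T, c ∈ Q := fun c hc => (hTa c hc).1
  have hQT : qP G Q a2 = qP G T a2 := by
    rw [qP_drop G a2 (fun r => T.contains r) fun x hx hx' => hsup2 x hx (by simpa using hx')]
    refine qP_perm G hQ (fun x hx => (List.mem_filter.1 hx).1) ?_ a2
    exact (List.perm_ext_iff_of_nodup (hnd.filter _) hTn).2 fun x => by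
      simp only [List.mem_filter, List.contains_iff_mem]
      exact ⟨And.right, fun hx => ⟨hTQ x hx, hx⟩⟩
  -- back to the group
  obtain ⟨hbc, hbcls⟩ := cls_qP G hQ Q (fun _ h => h) b
  obtain ⟨hTc, hTcls⟩ := cls_qP G hQ T hTQ a2
  set g2 := k * (Inv.qP G Q b * (h * (v * q) * h⁻¹) * (Inv.qP G Q b)⁻¹) * k⁻¹ with hg2
  have hm1 : h * (v * q) * h⁻¹ ∈ cen G F := hconj ▸ mul_mem hSc hqc
  have hm2 := mul_mem (mul_mem hbc hm1) (inv_mem hbc)
  obtain ⟨s, es⟩ : ∃ s : F, g2 = Inv.prodX G S * Inv.qP G T a2 * G.xg (zr D) s := by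
    refine cls_eq G (mul_mem hSc hTc) (mul_mem (mul_mem hkc hm2) (inv_mem hkc)) ?_
    rw [cls_mul G hSc hTc, hScls, hTcls, ← hQT, ← e2, ← e1, hg2, cls_mul G (mul_mem hkc hm2) (inv_mem hkc),
      cls_mul G hkc hm2, cls_inv G hkc, cls_mul G (mul_mem hbc hm1) (inv_mem hbc), cls_mul G hbc hm1,
      cls_inv G hbc, hbcls, hconj, cls_mul G hSc hqc, hScls, ha]
  -- removal of the last root
  simp only [finOk, Bool.and_eq_true] at hfin
  obtain ⟨hleaf, hrest⟩ := hfin
  have hb : Inv.qP G Q b ∈ rootGrp F G (P ++ U) :=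
    rootGrp_mono G (fun r => List.mem_append_right P) (posSub_le_rootGrp G U (hqmem b))
  have hup : rootGrp F G P ≤ rootGrp F G (P ++ U) := rootGrp_mono G fun r => List.mem_append_left U
  suffices hmain : ∃ j ∈ rootGrp F G (P ++ U), ∃ W ∈ L', j * g2 * j⁻¹ = Inv.prodX G W by
    obtain ⟨j, hj, W, hW, ej⟩ := hmain
    refine ⟨j * k * Inv.qP G Q b * h, mul_mem (mul_mem (mul_mem hj (hup hkP)) hb) (hup hh), W, hW, ?_⟩
    rw [← ej, hg2]
    group
  have main : ∀ (T' : List ℕ) (a3 : ℕ → F) (w' : List ℕ), leafOk G E (P ++ U) L' S T' w' = true →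
      (∀ c ∈ T', c ∈ U ∧ a3 c ≠ 0) → T'.Nodup →
      ∃ j ∈ rootGrp F G (P ++ U), ∃ W ∈ L', j * (Inv.prodX G S * Inv.qP G T' a3) * j⁻¹ = Inv.prodX G W := by
    intro T' a3 w' hl hT' hT'n
    simp only [leafOk, Bool.and_eq_true, List.all_eq_true, decide_eq_true_eq, ct_eq, pr_eq, ngb_eq, posB_eq] at hl
    obtain ⟨hpair, hsteps⟩ := hl
    have hUn : ∀ c ∈ U, c < D.nroots := fun c hc => by
      rcases List.mem_append.1 hc with h | h
      exacts [q_lt G hQ h, List.mem_singleton.1 h ▸ hzpos.1]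
    obtain ⟨t, ht, e3⟩ := torus_one G (P' := P ++ U) T' S hSn
      (fun c hc => ⟨hUn c (hT' c hc).1, List.mem_append_right _ (hT' c hc).1⟩) hT'n
      (fun c hc r hr => by
        have hrn : r < D.nroots := by
          rcases List.mem_append.1 hr with h | h
          exacts [hSn r h, hUn r (hT' r h).1]
        rw [G.pairing_eq_pair (hUn c (hT' c hc).1) hrn]
        exact hpair c hc r hr)
      (fun s hs hsT => (hS' s hs).2 (hT' s hsT).1) a3 (fun c hc => (hT' c hc).2)
    obtain ⟨j, hj, W, hW, e4⟩ := steps_spec (F := F) G hE _ _ hsteps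
    refine ⟨j * t, mul_mem hj ht, W, hW, ?_⟩
    rw [← e4, ← e3]
    group
  match T, hrest, hleaf, hTn, hTa, hTQ, es with
  | [], hrest, hleaf, _, _, _, es =>
    by_cases hs0 : s = 0
    · rw [es, hs0, G.xg_zero, mul_one]
      exact main [] a2 w hleaf (fun c hc => absurd hc List.not_mem_nil) List.nodup_nil
    · rw [es, show Inv.prodX G S * Inv.qP G [] a2 * G.xg (zr D) s =
        Inv.prodX G S * Inv.qP G [zr D] (fun _ => s) by simp [Inv.qP]]
      exact main [zr D] (fun _ => s) wz hrest (fun c hc => ⟨List.mem_append_right _ hc, hs0⟩)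
        (List.nodup_singleton _)
  | c :: T', hrest, hleaf, hTn, hTa, hTQ, es =>
    simp only [List.any_eq_true] at hrest
    obtain ⟨c', hc'Q, hpart⟩ := hrest
    have hac := (hTa c List.mem_cons_self).2
    obtain ⟨j, hj, W, hW, ej⟩ := main (c :: T') a2 w hleaf
      (fun x hx => ⟨List.mem_append_left _ (hTQ x hx), (hTa x hx).2⟩) hTn
    refine ⟨j * G.xg c' (s / a2 c), mul_mem hj (xg_mem_rootGrp G (q_lt G hQ hc'Q)
      (Or.inl (List.mem_append_right _ (List.mem_append_left _ hc'Q))) _), W, hW, ?_⟩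
    have hp := part_conj G hpart (q_zOk G hQ (hTQ c List.mem_cons_self)) (q_zOk G hQ hc'Q)
      (fun x hx => by
        rcases List.mem_append.1 hx with h | h
        exacts [hSn x h, q_lt G hQ (hTQ x (List.mem_cons_of_mem _ h))])
      (fun r hr => q_zOk G hQ (hTQ r (List.mem_cons_of_mem _ hr))) a2 (s / a2 c) s
    rw [div_mul_cancel₀ _ hac, CharTwo.add_self_eq_zero, G.xg_zero, mul_one, ← es] at hp
    rw [← ej, ← hp]
    group

end Cfsg.Agent.H65.Inv.Z
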