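import Cfsg.Agent.H65.Inv.Z.Vec

/-!
Reduction moves for involutions `v q` with `v` a product over orthogonal roots and `q` in an abelian radical.
-/

set_option autoImplicit false
set_option linter.unusedSectionVars false

open Cfsg.Lie Cfsg.Agent.H46

namespace Cfsg.Agent.H65.Inv.Z

variable {D : ChevalleyDatum} (G : Good D)

/-- A shift as a map of basis vectors. -/
noncomputable def shL (d t : ℕ) : List ℕ := if t = d then [] else (sh G d t).toList

/-- Conjugation by the product over `S` on basis vectors. -/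
noncomputable def vOp : List ℕ → ℕ → List ℕ
  | [], t => [t]
  | s :: S, t => vOp S t ++ (vOp S t).flatMap (shL G s)

/-- Conjugation minus one on basis vectors. -/
noncomputable def aOp (S : List ℕ) (t : ℕ) : List ℕ := vOp G S t ++ [t]

/-- The preimages of a shift. -/
noncomputable def preL (Q : List ℕ) (s u : ℕ) : List ℕ := Q.filter fun t => (shL G s t).contains u

/-- A homotopy for conjugation minus one. -/
noncomputable def hOp (Q : List ℕ) : List ℕ → ℕ → List ℕ
  | [], _ => []
  | s :: S, t => (vOp G S t).flatMap (preL G Q s) ++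
      (hOp Q S t).filter fun u => (shL G s u).isEmpty && (preL G Q s u).isEmpty

/-- The homotopy identity modulo two. -/
noncomputable def killOk (Q S R : List ℕ) : Bool :=
  S.all (fun s => shiftOk G s Q) &&
  Q.all fun t =>
    let h := hOp G Q S t
    let a := aOp G S t
    h.all Q.contains && a.all Q.contains &&
    let tot := h.flatMap (aOp G S) ++ a.flatMap (hOp G Q S) ++ [t]
    Q.all fun u => decide (tot.count u % 2 = if u = t ∧ R.contains t then 1 else 0)

/-- The roots of `R` at pairing one with `m`. -/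
noncomputable def near (R : List ℕ) (m : ℕ) : List ℕ := R.filter fun r => decide (r ≠ m) && decide (pr G m r = 1)

/-- The roots of `R` orthogonal to `m`. -/
noncomputable def orth (R : List ℕ) (m : ℕ) : List ℕ := R.filter fun r => decide (r ≠ m) && decide (pr G m r = 0)

/-- The roots used to clear `r` with pivot `m`. -/
noncomputable def pivD (m r : ℕ) : ℕ := (sh G (ngb G m) r).getD 0

/-- The check of one pivot step. -/
noncomputable def pivOk (Ds S C R : List ℕ) (m r : ℕ) : Bool :=
  let d := pivD G m r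
  Ds.contains d && S.all (fun s => commOk G d s) && decide (shL G d m = [r]) && decide (r ≠ m) &&
  (C ++ R).all fun x => (shL G d x).all fun u =>
    R.contains u && decide (u ≠ m) && (!(near G R m).contains u || (decide (u = r) && decide (x = m)))

/-- The orthogonal subsets reached. -/
noncomputable def leaves : ℕ → List ℕ → List (List ℕ)
  | 0, _ => [[]]
  | n + 1, R => [] :: R.flatMap fun m => (leaves n (orth G R m)).map (m :: ·)

/-- The check of the pivot steps of the whole tree. -/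
noncomputable def orthOk (Ds S : List ℕ) : ℕ → List ℕ → List ℕ → Bool
  | 0, _, R => R.isEmpty
  | n + 1, C, R => R.all fun m => !C.contains m && (near G R m).all (pivOk G Ds S C R m) &&
      orthOk Ds S n (C ++ [m]) (orth G R m)

variable {F : Type*} [Field F] [CharP F 2]

/-- A linear map given on basis vectors. -/
def apL (Q : List ℕ) (L : ℕ → List ℕ) (a : ℕ → F) (u : ℕ) : F := ∑ t ∈ Q.toFinset, ((L t).count u : F) * a t

theorem apL_append (Q : List ℕ) (L M : ℕ → List ℕ) (a : ℕ → F) (u : ℕ) :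
    apL Q (fun t => L t ++ M t) a u = apL Q L a u + apL Q M a u := by
  simp only [apL, List.count_append, Nat.cast_add, add_mul, Finset.sum_add_distrib]

theorem apL_id (Q : List ℕ) (a : ℕ → F) {u : ℕ} (hu : u ∈ Q) : apL Q (fun t => [t]) a u = a u := by
  rw [apL, Finset.sum_eq_single u]
  · simp
  · intro t _ ht
    simp [ht]
  · intro h; exact absurd (List.mem_toFinset.2 hu) h

theorem apL_congr {Q : List ℕ} {L : ℕ → List ℕ} {a b : ℕ → F} (h : ∀ t ∈ Q, a t = b t) (u : ℕ) :
    apL Q L a u = apL Q L b u :=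
  Finset.sum_congr rfl fun t ht => by rw [h t (List.mem_toFinset.1 ht)]

theorem apL_flatMap {Q : List ℕ} (L M : ℕ → List ℕ) (hM : ∀ t ∈ Q, ∀ v ∈ M t, v ∈ Q) (a : ℕ → F) (u : ℕ) :
    apL Q (fun t => (M t).flatMap L) a u = apL Q L (apL Q M a) u := by
  simp only [apL, Finset.mul_sum]
  rw [Finset.sum_comm]
  refine Finset.sum_congr rfl fun t ht => ?_
  rw [Finset.sum_congr rfl fun s _ => show ((L s).count u : F) * (((M t).count s : F) * a t) =
    (((M t).count s : F) * ((L s).count u : F)) * a t by ring, ← Finset.sum_mul]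
  congr 1
  rw [List.count_flatMap, Nat.cast_list_sum, List.map_map, Finset.sum_list_map_count]
  rw [Finset.sum_subset (s₁ := (M t).toFinset) (s₂ := Q.toFinset)]
  · simp [nsmul_eq_mul]
  · intro v hv
    exact List.mem_toFinset.2 (hM t (List.mem_toFinset.1 ht) v (List.mem_toFinset.1 hv))
  · intro v _ hv
    rw [List.count_eq_zero_of_not_mem (fun h => hv (List.mem_toFinset.2 h)), zero_smul]

/-- The product of root elements with parameter one. -/
noncomputable def prodX (S : List ℕ) : Qg G F := (S.map fun r => xq G r (1 : F)).prod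

theorem prodX_cons (s : ℕ) (S : List ℕ) : (prodX G (s :: S) : Qg G F) = xq G s 1 * prodX G S := by
  simp [prodX]

variable {Q : List ℕ} (hQ : qOk G Q = true) (hnd : Q.Nodup)
include hQ hnd

theorem shF_eq (d : ℕ) (a : ℕ → F) (u : ℕ) : shF G Q d a u = apL Q (shL G d) a u := by
  rw [shF, apL, ← List.sum_toFinset _ (hnd.filter _), List.toFinset_filter, Finset.sum_filter]
  refine Finset.sum_congr rfl fun t _ => ?_
  simp only [shL, ct_eq, pr_eq, ngb_eq, posB_eq]
  by_cases h : t = d
  · simp [h]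
  · cases hs : sh G d t with
    | none => simp [h]
    | some w => by_cases hw : w = u <;> simp [h, hw]

theorem vOp_mem {S : List ℕ} (hS : ∀ s ∈ S, shiftOk G s Q = true) {t : ℕ} (ht : t ∈ Q) :
    ∀ v ∈ vOp G S t, v ∈ Q := by
  induction S with
  | nil => intro v hv; simp only [vOp, List.mem_singleton, ct_eq, pr_eq, ngb_eq, posB_eq] at hv; exact hv ▸ ht
  | cons s S ih =>
    have ih' := ih fun x hx => hS x (List.mem_cons_of_mem _ hx)
    intro v hv
    simp only [vOp, List.mem_append, List.mem_flatMap, ct_eq, pr_eq, ngb_eq, posB_eq] at hv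
    rcases hv with h | ⟨w, hw, h⟩
    · exact ih' v h
    · simp only [shL, ct_eq, pr_eq, ngb_eq, posB_eq] at h
      split_ifs at h with hws
      · simp at h
      · exact sh_mem G (hS s List.mem_cons_self) (ih' w hw) hws (Option.mem_toList.1 h)

/-- Conjugation by a product over `S` in coordinates. -/
theorem conj_prodX : ∀ {S : List ℕ}, (∀ s ∈ S, shiftOk G s Q = true) → ∀ a : ℕ → F,
    prodX G S * qP G Q a * (prodX G S)⁻¹ = qP G Q (apL Q (vOp G S) a)
  | [], _, a => by
    simp only [prodX, List.map_nil, List.prod_nil, one_mul, inv_one, mul_one]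
    exact qP_congr G fun u hu => (apL_id Q a hu).symm
  | s :: S, hS, a => by
    have hS' : ∀ x ∈ S, shiftOk G x Q = true := fun x hx => hS x (List.mem_cons_of_mem _ hx)
    rw [prodX_cons, show xq G s 1 * prodX G S * qP G Q a * (xq G s 1 * prodX G S)⁻¹ =
      xq G s 1 * (prodX G S * qP G Q a * (prodX G S)⁻¹) * (xq G s 1)⁻¹ by group, conj_prodX hS' a,
      conj_qP G hQ hnd (hS s List.mem_cons_self)]
    refine qP_congr G fun u _ => ?_
    rw [one_mul, shF_eq G hQ hnd, show vOp G (s :: S) = fun t => vOp G S t ++ (vOp G S t).flatMap (shL G s) from rfl,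
      apL_append, apL_flatMap _ _ fun t ht => vOp_mem G hQ hnd hS' ht]

variable (hord : Q = (List.range' (D.nroots / 2) (D.nroots - D.nroots / 2)).filter (fun r => Q.contains r))
include hord

/-- Conjugating `v q` by an element of `Q` leaves `q` supported on the roots `R`. -/
theorem kill_step {S R : List ℕ} (hk : killOk G Q S R = true) (hv : prodX G S * prodX G S = (1 : Qg G F))
    {a : ℕ → F} (hinv : prodX G S * qP G Q a * (prodX G S * qP G Q a) = 1) :
    ∃ b a' : ℕ → F, qP G Q b * (prodX G S * qP G Q a) * (qP G Q b)⁻¹ = prodX G S * qP G Q a' ∧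
      ∀ u ∈ Q, u ∉ R → a' u = 0 := by
  simp only [killOk, Bool.and_eq_true, List.all_eq_true, decide_eq_true_eq, List.contains_iff_mem, ct_eq, pr_eq, ngb_eq, posB_eq] at hk
  obtain ⟨hS, hk⟩ := hk
  set v := (prodX G S : Qg G F)
  have hvinv : v⁻¹ = v := inv_eq_of_mul_eq_one_right hv
  have hsq : ∀ c : ℕ → F, qP G Q c * qP G Q c = 1 := fun c => by
    rw [qP_mul G hQ fun _ h => h]
    exact (qP_congr G (b := fun _ => (0 : F)) fun r _ => CharTwo.add_self_eq_zero (c r)).trans (qP_zero G Q)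
  have hfix : ∀ u ∈ Q, apL Q (aOp G S) a u = 0 := by
    intro u hu
    have h1 : qP G Q (apL Q (vOp G S) a) = qP G Q a := by
      rw [← conj_prodX G hQ hnd hS a]
      have h2 := mul_eq_one_iff_eq_inv.1 (show v * qP G Q a * v * qP G Q a = 1 by rw [← hinv]; group)
      rw [hvinv, h2, inv_eq_of_mul_eq_one_right (hsq a)]
    rw [show aOp G S = fun t => vOp G S t ++ [t] from rfl, apL_append, apL_id Q a hu, qP_inj G hQ hord h1 hu,
      CharTwo.add_self_eq_zero]
  set b := apL Q (hOp G Q S) a with hb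
  refine ⟨b, apL Q (aOp G S) b + a, ?_, fun u hu huR => ?_⟩
  · have hinvb : (qP G Q b)⁻¹ = qP G Q b := inv_eq_of_mul_eq_one_right (hsq b)
    have hc := conj_prodX G hQ hnd hS b
    rw [hvinv] at hc
    rw [hinvb, show qP G Q b * (v * qP G Q a) * qP G Q b =
      v * ((v⁻¹ * qP G Q b * v) * qP G Q a * qP G Q b) by group, hvinv, hc, qP_mul G hQ fun _ h => h,
      qP_mul G hQ fun _ h => h]
    congr 1
    refine qP_congr G fun u hu => ?_
    simp only [Pi.add_apply]
    rw [show aOp G S = fun t => vOp G S t ++ [t] from rfl, apL_append, apL_id Q b hu]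
    ring
  · have hH : ∀ t ∈ Q, ∀ v ∈ hOp G Q S t, v ∈ Q := fun t ht => (hk t ht).1.1
    have hA : ∀ t ∈ Q, ∀ v ∈ aOp G S t, v ∈ Q := fun t ht => (hk t ht).1.2
    have htot : apL Q (fun t => (hOp G Q S t).flatMap (aOp G S) ++ (aOp G S t).flatMap (hOp G Q S) ++ [t]) a u = 0 := by
      refine Finset.sum_eq_zero fun t ht => ?_
      have ht' := List.mem_toFinset.1 ht
      have h := (hk t ht').2 u hu
      rw [if_neg (fun hh : u = t ∧ t ∈ R => huR (hh.1 ▸ hh.2))] at h
      rw [(CharP.cast_eq_zero_iff F 2 _).2 (Nat.dvd_of_mod_eq_zero h), zero_mul]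
    rw [apL_append, apL_append, apL_id Q a hu, apL_flatMap _ _ hH, apL_flatMap _ _ hA,
      apL_congr (a := apL Q (aOp G S) a) (b := fun _ => (0 : F)) hfix,
      show apL Q (hOp G Q S) (fun _ => (0 : F)) u = 0 by simp [apL], add_zero, ← hb] at htot
    exact htot

/-- One pivot step. -/
theorem pivot_step {Ds S C R : List ℕ} {m r : ℕ} (hDs : ∀ d ∈ Ds, shiftOk G d Q = true)
    (hSn : ∀ s ∈ S, zOk G s = true) (hp : pivOk G Ds S C R m r = true) (hR : ∀ x ∈ R, x ∈ Q)
    (hm : m ∈ R) (hrR : r ∈ near G R m) {a : ℕ → F} (ham : a m ≠ 0) (hCR : ∀ c ∈ C, c ∉ R)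
    (hsup : ∀ u ∈ Q, u ∉ C → u ∉ R → a u = 0) :
    ∃ d ∈ Ds, ∃ z : F, ∃ a' : ℕ → F, xq G d z * (prodX G S * qP G Q a) * (xq G d z)⁻¹ = prodX G S * qP G Q a' ∧
      a' r = 0 ∧ a' m = a m ∧ (∀ c ∈ Q, c ∈ C → a' c = a c) ∧
      (∀ x ∈ Q, x ∈ near G R m → x ≠ r → a' x = a x) ∧ ∀ u ∈ Q, u ∉ C → u ∉ R → a' u = 0 := by
  simp only [pivOk, Bool.and_eq_true, List.all_eq_true, decide_eq_true_eq, List.contains_iff_mem, Bool.or_eq_true,
    Bool.not_eq_true', List.contains_eq_mem, decide_eq_false_iff_not] at hp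
  obtain ⟨⟨⟨⟨hd, hcomm⟩, hdm⟩, hrm⟩, htgt⟩ := hp
  set d := pivD G m r
  obtain ⟨z, hz⟩ : ∃ z, z * a m = a r := ⟨a r / a m, by field_simp⟩
  have hdn : zOk G d = true := by
    have := hDs d hd
    simp only [shiftOk, Bool.and_eq_true, decide_eq_true_eq, ct_eq, pr_eq, ngb_eq, posB_eq] at this
    exact this.1
  have hcS : Commute (xq G d z) (prodX G S : Qg G F) := Commute.list_prod_right _ _ fun x hx => by
    obtain ⟨s, hs, rfl⟩ := List.mem_map.1 hx
    exact commute_of_ok G hdn (hSn s hs) (hcomm s hs) z 1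
  set a' := fun u => a u + z * apL Q (shL G d) a u with ha'
  have hsame : ∀ u, (∀ x ∈ Q, a x ≠ 0 → u ∉ shL G d x) → a' u = a u := by
    intro u h
    simp only [ha', apL]
    rw [Finset.sum_eq_zero fun x hx => ?_, mul_zero, add_zero]
    by_cases hx0 : a x = 0
    · rw [hx0, mul_zero]
    · rw [List.count_eq_zero_of_not_mem (h x (List.mem_toFinset.1 hx) hx0), Nat.cast_zero, zero_mul]
  have hsupp : ∀ x ∈ Q, a x ≠ 0 → x ∈ C ++ R := fun x hx h0 => by
    by_contra hc
    rw [List.mem_append, not_or] at hc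
    exact h0 (hsup x hx hc.1 hc.2)
  refine ⟨d, hd, z, a', ?_, ?_, ?_, fun c _ hc => ?_, fun x _ hx hxr => ?_, fun u hu huC huR => ?_⟩
  · rw [show xq G d z * (prodX G S * qP G Q a) * (xq G d z)⁻¹ =
      (xq G d z * prodX G S * (xq G d z)⁻¹) * (xq G d z * qP G Q a * (xq G d z)⁻¹) by group,
      hcS.eq, mul_inv_cancel_right, conj_qP G hQ hnd (hDs d hd)]
    congr 1
    exact qP_congr G fun u _ => by rw [shF_eq G hQ hnd]
  · simp only [ha', apL]
    rw [Finset.sum_eq_single m]
    · rw [hdm, List.count_singleton_self, Nat.cast_one, one_mul, hz, CharTwo.add_self_eq_zero]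
    · intro x hx hxm
      by_cases hx0 : a x = 0
      · rw [hx0, mul_zero]
      · rw [List.count_eq_zero_of_not_mem fun hmem => ?_, Nat.cast_zero, zero_mul]
        rcases (htgt x (hsupp x (List.mem_toFinset.1 hx) hx0) r hmem).2 with h | h
        · simp [hrR] at h
        · exact hxm h.2
    · intro h; exact absurd (List.mem_toFinset.2 (hR m hm)) h
  · refine hsame m fun x hx hx0 hmem => ?_
    exact (htgt x (hsupp x hx hx0) m hmem).1.2 rfl
  · refine hsame c fun x hx hx0 hmem => ?_
    exact hCR c hc (htgt x (hsupp x hx hx0) c hmem).1.1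
  · refine hsame x fun y hy hy0 hmem => ?_
    rcases (htgt y (hsupp y hy hy0) x hmem).2 with h | h
    · simp [hx] at h
    · exact hxr h.1
  · rw [hsame u fun x hx hx0 hmem => huR (htgt x (hsupp x hx hx0) u hmem).1.1, hsup u hu huC huR]

/-- All roots near the pivot are cleared. -/
theorem pivot_all {Ds S C R : List ℕ} {m : ℕ} (hDs : ∀ d ∈ Ds, shiftOk G d Q = true)
    (hSn : ∀ s ∈ S, zOk G s = true) (hp : (near G R m).all (pivOk G Ds S C R m) = true) (hR : ∀ x ∈ R, x ∈ Q)
    (hm : m ∈ R) {K : Subgroup (Qg G F)} (hK : ∀ d ∈ Ds, ∀ z : F, xq G d z ∈ K) (hCR : ∀ c ∈ C, c ∉ R) :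
    ∀ (L : List ℕ), (∀ x ∈ L, x ∈ near G R m) → ∀ a : ℕ → F, a m ≠ 0 →
      (∀ u ∈ Q, u ∉ C → u ∉ R → a u = 0) → (∀ x ∈ near G R m, x ∉ L → a x = 0) →
      ∃ k ∈ K, ∃ a' : ℕ → F, k * (prodX G S * qP G Q a) * k⁻¹ = prodX G S * qP G Q a' ∧ a' m ≠ 0 ∧
        (∀ c ∈ Q, c ∈ C → a' c = a c) ∧ (∀ u ∈ Q, u ∉ C → u ∉ R → a' u = 0) ∧ ∀ x ∈ near G R m, a' x = 0
  | [], _, a, ham, hsup, hz => ⟨1, one_mem _, a, by simp, ham, fun _ _ _ => rfl, hsup,
      fun x hx => hz x hx (by simp)⟩
  | r :: L, hL, a, ham, hsup, hz => by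
    have hr := hL r List.mem_cons_self
    obtain ⟨d, hd, z, a1, e, h0, h1, h2, h3, h4⟩ := pivot_step G hQ hnd hord hDs hSn
      (List.all_eq_true.1 hp r hr) hR hm hr ham hCR hsup
    obtain ⟨k, hk, a2, e', g1, g2, g3, g4⟩ := pivot_all hDs hSn hp hR hm hK hCR L
      (fun x hx => hL x (List.mem_cons_of_mem _ hx)) a1 (h1 ▸ ham) h4 fun x hx hxL => by
        have hxQ : x ∈ Q := hR x (List.mem_filter.1 hx).1
        rcases eq_or_ne x r with rfl | hne
        · exact h0
        · rw [h3 x hxQ hx hne]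
          exact hz x hx (by simp [hne, hxL])
    refine ⟨k * xq G d z, mul_mem hk (hK d hd z), a2, ?_, g1, fun c hc hcC => by rw [g2 c hc hcC, h2 c hc hcC],
      g3, g4⟩
    rw [← e', ← e]
    group

end Cfsg.Agent.H65.Inv.Z
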