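import Cfsg.Agent.H65.Inv.Level
import Mathlib.GroupTheory.QuotientGroup.Defs

/-!
Root elements modulo the root group of the last root, inside the centraliser of that group.
-/

set_option autoImplicit false
set_option linter.unusedSectionVars false

open Cfsg.Lie Cfsg.Agent.H46

namespace Cfsg.Agent.H65.Inv.Z

variable (D : ChevalleyDatum)

/-- The last root. -/
def zr : ℕ := D.nroots - 1

variable {D} (G : Good D)

/-- The root elements for `r` commute with those of the last root. -/
noncomputable def zOk (r : ℕ) : Bool := decide (r < D.nroots) && Inv.commOk G r (zr D)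

/-- Root elements for `r` and `s` commute modulo the last root. -/
noncomputable def commOk (r s : ℕ) : Bool :=
  decide (r = s) || (decide (s ≠ ngb G r) && (ct G r s).all fun c => decide (c.1 = zr D))

/-- The sum `d + t` when it is a root other than the last. -/
noncomputable def sh (d t : ℕ) : Option ℕ :=
  ((ct G d t).head?.map Prod.fst).bind fun u => if u = zr D then none else some u

/-- Conjugation by root elements of `d` moves a root of `Q` by at most one step inside `Q`. -/
noncomputable def shiftOk (d : ℕ) (Q : List ℕ) : Bool :=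
  zOk G d && Q.all fun t => decide (t ≠ ngb G d) &&
    (decide (t = d) || (ct G d t).all (fun c => decide (c.1 = zr D)) ||
      match ct G d t with
      | [(u, c, 1, 1)] => Q.contains u && decide (u ≠ zr D) && decide (c % 2 = 1) && commOk G d u
      | _ => false)

/-- Facts about the list of roots `Q`. -/
noncomputable def qOk (Q : List ℕ) : Bool :=
  Q.all fun r => posB G r && decide (r ≠ zr D) && zOk G r && Q.all fun s => commOk G r s

variable (F : Type*) [Field F]

/-- The centraliser of the last root group. -/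
def cen : Subgroup (GL D.Idx F) := Subgroup.centralizer (Set.range fun t : F => G.xg (zr D) t)

/-- The last root group in its centraliser. -/
noncomputable def zSub : Subgroup ↥(cen G F) where
  carrier := {g | ∃ t : F, (g : GL D.Idx F) = G.xg (zr D) t}
  one_mem' := ⟨0, by simp [G.xg_zero]⟩
  mul_mem' := by
    rintro a b ⟨t, ht⟩ ⟨u, hu⟩
    exact ⟨t + u, by rw [Subgroup.coe_mul, ht, hu, G.xg_add]⟩
  inv_mem' := by
    rintro a ⟨t, ht⟩
    exact ⟨-t, by rw [Subgroup.coe_inv, ht, G.xg_inv]⟩

instance zSub_normal : (zSub G F).Normal where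
  conj_mem n hn g := by
    obtain ⟨t, ht⟩ := hn
    refine ⟨t, ?_⟩
    have hc := Subgroup.mem_centralizer_iff.1 g.2 (G.xg (zr D) t) ⟨t, rfl⟩
    rw [Subgroup.coe_mul, Subgroup.coe_mul, Subgroup.coe_inv, ht, ← hc, mul_inv_cancel_right]

/-- The quotient. -/
abbrev Qg := ↥(cen G F) ⧸ zSub G F

variable {F}

/-- The class of an element centralising the last root group, or one. -/
noncomputable def cls (g : GL D.Idx F) : Qg G F := by
  classical exact if h : g ∈ cen G F then QuotientGroup.mk ⟨g, h⟩ else 1

theorem cls_mul {g h : GL D.Idx F} (hg : g ∈ cen G F) (hh : h ∈ cen G F) : cls G (g * h) = cls G g * cls G h := by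
  simp only [cls, dif_pos hg, dif_pos hh, dif_pos (mul_mem hg hh)]
  rfl

theorem cls_inv {g : GL D.Idx F} (hg : g ∈ cen G F) : cls G g⁻¹ = (cls G g)⁻¹ := by
  simp only [cls, dif_pos hg, dif_pos (inv_mem hg)]
  rfl

theorem cls_one : cls G (1 : GL D.Idx F) = 1 := by
  simp only [cls, dif_pos (one_mem (cen G F))]
  rfl

theorem cls_eq {g h : GL D.Idx F} (hg : g ∈ cen G F) (hh : h ∈ cen G F) (e : cls G g = cls G h) :
    ∃ t : F, h = g * G.xg (zr D) t := by
  simp only [cls, dif_pos hg, dif_pos hh] at e
  obtain ⟨t, ht⟩ := (QuotientGroup.eq).1 e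
  refine ⟨t, ?_⟩
  rw [← ht, Subgroup.coe_mul, Subgroup.coe_inv]
  group

theorem cls_z (t : F) (h : G.xg (zr D) t ∈ cen G F) : cls G (G.xg (zr D) t) = 1 := by
  simp only [cls, dif_pos h]
  exact (QuotientGroup.eq_one_iff _).2 ⟨t, rfl⟩

/-- The class of a root element. -/
noncomputable def xq (r : ℕ) (t : F) : Qg G F := cls G (G.xg r t)

variable [CharP F 2]

theorem xg_mem_cen {r : ℕ} (h : zOk G r = true) (t : F) : G.xg r t ∈ cen G F := by
  simp only [zOk, Bool.and_eq_true, decide_eq_true_eq, ct_eq, pr_eq, ngb_eq, posB_eq] at h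
  refine Subgroup.mem_centralizer_iff.2 ?_
  rintro g ⟨u, rfl⟩
  exact (commute_of_ok G h.1 (show zr D < D.nroots by unfold zr; omega) h.2 t u).eq.symm

theorem z_ok (h : 0 < D.nroots) : zOk G (zr D) = true := by
  simp [zOk, Inv.commOk, zr, ct_eq, pr_eq, ngb_eq, posB_eq]
  omega

theorem xq_add {r : ℕ} (h : zOk G r = true) (t u : F) : xq G r t * xq G r u = xq G r (t + u) := by
  rw [xq, xq, xq, ← cls_mul G (xg_mem_cen G h t) (xg_mem_cen G h u), G.xg_add]

theorem xq_zero (r : ℕ) : xq G r (0 : F) = 1 := by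
  rw [xq, G.xg_zero, cls_one]

theorem xq_inv {r : ℕ} (h : zOk G r = true) (t : F) : (xq G r t)⁻¹ = xq G r (-t) := by
  rw [xq, xq, ← cls_inv G (xg_mem_cen G h t), G.xg_inv]

/-- The classes of root elements over the last root vanish. -/
theorem terms_cls {n : ℕ} (hn : n < D.nroots) : ∀ (L : List (ℕ × ℤ × ℕ × ℕ)), (∀ c ∈ L, c.1 = zr D) → ∀ f : ℕ × ℤ × ℕ × ℕ → F,
    (L.map fun c => G.xg c.1 (f c)).prod ∈ cen G F ∧ cls G (L.map fun c => G.xg c.1 (f c)).prod = 1
  | [], _, f => ⟨one_mem _, cls_one G⟩
  | c :: L, h, f => by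
    obtain ⟨h1, h2⟩ := terms_cls hn L (fun x hx => h x (List.mem_cons_of_mem _ hx)) f
    have hm : G.xg c.1 (f c) ∈ cen G F := by
      rw [h c List.mem_cons_self]
      exact xg_mem_cen G (z_ok G (by omega)) _
    rw [List.map_cons, List.prod_cons]
    refine ⟨mul_mem hm h1, ?_⟩
    rw [cls_mul G hm h1, h2, mul_one, h c List.mem_cons_self]
    exact cls_z G _ (xg_mem_cen G (z_ok G (by omega)) _)

theorem commute_terms {r s : ℕ} (hr : zOk G r = true) (hs : zOk G s = true) (hne : s ≠ r) (hn : s ≠ D.neg r)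
    (hc : ∀ c ∈ D.commTerms r s, c.1 = zr D) (t u : F) : Commute (xq G r t) (xq G s u) := by
  have hr' := hr
  have hs' := hs
  simp only [zOk, Bool.and_eq_true, decide_eq_true_eq, ct_eq, pr_eq, ngb_eq, posB_eq] at hr' hs'
  obtain ⟨h1, h2⟩ := terms_cls G hr'.1 _ hc fun c => (c.2.1 : F) * (-t) ^ c.2.2.1 * u ^ c.2.2.2
  have h := xg_mul_xg G hr'.1 hs'.1 hne hn rfl t u
  have hm1 := xg_mem_cen G hr t
  have hm2 := xg_mem_cen G hs u
  show _ = _
  rw [xq, xq, ← cls_mul G hm1 hm2, ← cls_mul G hm2 hm1, h, cls_mul G (mul_mem hm1 hm2) h1, h2, mul_one]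

theorem commute_of_ok {r s : ℕ} (hr : zOk G r = true) (hs : zOk G s = true) (h : commOk G r s = true) (t u : F) :
    Commute (xq G r t) (xq G s u) := by
  simp only [commOk, Bool.or_eq_true, decide_eq_true_eq, Bool.and_eq_true, List.all_eq_true, ct_eq, pr_eq, ngb_eq, posB_eq] at h
  rcases h with rfl | ⟨hn, hc⟩
  · show _ = _
    rw [xq_add G hr, xq_add G hr, add_comm]
  · rcases eq_or_ne s r with rfl | hne
    · show _ = _
      rw [xq_add G hr, xq_add G hr, add_comm]
    · exact commute_terms G hr hs hne hn hc t u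

/-- The conjugate of one root element by another. -/
theorem conj_xq_shift {d t : ℕ} {Q : List ℕ} (hQ : qOk G Q = true) (ht : t ∈ Q) (hd : shiftOk G d Q = true)
    (z a : F) :
    xq G d z * xq G t a * (xq G d z)⁻¹ =
      match sh G d t with
      | none => xq G t a
      | some u => if t = d then xq G t a else xq G t a * xq G u (z * a) := by
  have htz : zOk G t = true := by
    simp only [qOk, List.all_eq_true, Bool.and_eq_true, ct_eq, pr_eq, ngb_eq, posB_eq] at hQ
    exact (hQ t ht).1.2
  simp only [shiftOk, Bool.and_eq_true, decide_eq_true_eq, List.all_eq_true, Bool.or_eq_true, ct_eq, pr_eq, ngb_eq, posB_eq] at hd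
  obtain ⟨hdz, hd⟩ := hd
  obtain ⟨hneg, hd⟩ := hd t ht
  rcases eq_or_ne t d with rfl | htd
  · have hc : xq G t z * xq G t a * (xq G t z)⁻¹ = xq G t a := by
      rw [xq_add G htz, xq_inv G htz, xq_add G htz]
      congr 1
      ring
    rw [hc]
    split <;> simp
  by_cases hall : ∀ c ∈ D.commTerms d t, c.1 = zr D
  · have hsh : sh G d t = none := by
      simp only [sh, ct_eq, pr_eq, ngb_eq, posB_eq]
      rcases hL : D.commTerms d t with _ | ⟨c, L⟩
      · rfl
      · simp [hall c (by rw [hL]; exact List.mem_cons_self)]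
    simp only [hsh]
    rw [mul_inv_eq_iff_eq_mul]
    exact commute_terms G hdz htz htd hneg hall z a
  · replace hd := (hd.resolve_left (by rintro (h | h) <;> [exact htd h; exact hall h]))
    rcases hL : D.commTerms d t with _ | ⟨⟨u, c, i, j⟩, L⟩
    · rw [hL] at hd; simp at hd
    · rw [hL] at hd
      obtain rfl : i = 1 := by
        rcases L with _ | ⟨_, _⟩ <;> rcases i with _ | _ | i <;> simp_all
      obtain rfl : j = 1 := by
        rcases L with _ | ⟨_, _⟩ <;> rcases j with _ | _ | j <;> simp_all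
      obtain rfl : L = [] := by
        rcases L with _ | ⟨_, _⟩ <;> simp_all
      simp only [Bool.and_eq_true, decide_eq_true_eq, List.contains_iff_mem] at hd
      obtain ⟨⟨⟨huQ, huz⟩, hc⟩, hcu⟩ := hd
      have huz' : zOk G u = true := by
        simp only [qOk, List.all_eq_true, Bool.and_eq_true, ct_eq, pr_eq, ngb_eq, posB_eq] at hQ
        exact (hQ u huQ).1.2
      have hdn : d < D.nroots := by simp only [zOk, Bool.and_eq_true, decide_eq_true_eq, ct_eq, pr_eq, ngb_eq, posB_eq] at hdz; exact hdz.1
      have htn : t < D.nroots := by simp only [zOk, Bool.and_eq_true, decide_eq_true_eq, ct_eq, pr_eq, ngb_eq, posB_eq] at htz; exact htz.1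
      simp only [sh, hL, List.head?_cons, Option.map_some, Option.bind_some, if_neg huz, if_neg htd, ct_eq, pr_eq, ngb_eq, posB_eq]
      have h := xg_mul_xg G hdn htn htd hneg hL z a
      simp only [List.map_cons, List.map_nil, List.prod_cons, List.prod_nil, mul_one, pow_one] at h
      have hcF : (c : F) = 1 := by
        have h2 : (((c - 1 : ℤ)) : F) = 0 := (CharP.intCast_eq_zero_iff F 2 _).2 (by omega)
        push_cast at h2
        exact sub_eq_zero.1 h2
      rw [hcF, one_mul, CharTwo.neg_eq] at h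
      have m1 := xg_mem_cen G hdz z
      have m2 := xg_mem_cen G htz a
      have m3 := xg_mem_cen G huz' (z * a)
      have h' := congrArg (cls G) h
      rw [cls_mul G m2 m1, cls_mul G (mul_mem m1 m2) m3, cls_mul G m1 m2] at h'
      have hcomm := (commute_of_ok G hdz huz' hcu z (z * a)).eq
      have h2 : xq G d z * xq G t a = xq G t a * xq G d z * xq G u (z * a) := by
        simp only [xq] at hcomm ⊢
        rw [h', mul_assoc (_ * _) (cls G (G.xg u _)), ← cls_mul G m3 m3, G.xg_add, CharTwo.add_self_eq_zero,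
          G.xg_zero, cls_one, mul_one]
      rw [mul_inv_eq_iff_eq_mul, h2, mul_assoc, mul_assoc, hcomm]

end Cfsg.Agent.H65.Inv.Z
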