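import Cfsg.Agent.H65.Inv.Z.Move

/-!
Reduction to orthogonal sets along a tree that uses the Weyl symmetries fixing the sets already reached.
-/

set_option autoImplicit false
set_option linter.unusedSectionVars false

open Cfsg.Lie Cfsg.Agent.H46

namespace Cfsg.Agent.H65.Inv.Z

/-- A tree of orthogonal sets: certificate, symmetries and branches. -/
inductive Tree where
  /-- a node -/
  | node (w : List ℕ) (mv : List (ℕ × List ℕ)) (kids : Tree)
  /-- no more branches -/
  | nil
  /-- a branch and the remaining branches -/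
  | cons (m : ℕ) (sub : Tree) (rest : Tree)

/-- The branches. -/
def Tree.list : Tree → List (ℕ × Tree)
  | .cons m t r => (m, t) :: r.list
  | _ => []

variable {D : ChevalleyDatum}

/-- The image of a root under a sequence of simple reflections. -/
def image (T : Tab) : List ℕ → ℕ → ℕ
  | [], m => m
  | i :: w, m => image T w (T.refl i m)

/-- The reflections preserve the data of a node. -/
noncomputable def symOk (G : Good D) (P Q S C R : List ℕ) (w : List ℕ) : Bool :=
  w.all fun i => decide (i < D.rank) && P.contains (D.simple i) && zOk G (D.simple i) &&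
    zOk G (ngb G (D.simple i)) && (S ++ C).all (fun r => decide (G.tab.refl i r = r)) &&
    Q.all (fun t => Q.contains (G.tab.refl i t) && decide (G.tab.refl i (G.tab.refl i t) = t)) &&
    R.all (fun x => R.contains (G.tab.refl i x))

/-- Root elements of `c'` shift those of `c` by the last root and commute with the others. -/
noncomputable def partOk (G : Good D) (L : List ℕ) (c c' : ℕ) : Bool :=
  decide (c' ≠ c) && decide (c ≠ ngb G c') && L.all (Inv.commOk G c') &&
    match ct G c' c with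
    | [(u, k, 1, 1)] => decide (u = zr D) && decide (k % 2 = 1)
    | _ => false

/-- The roots that can be neither cleared nor kept with the pivot. -/
noncomputable def far (G : Good D) (R : List ℕ) (m : ℕ) : List ℕ :=
  R.filter fun r => decide (r ≠ m) && decide (pr G m r ≠ 0) && decide (pr G m r ≠ 1)

/-- The roots kept with the pivot. -/
noncomputable def keep (G : Good D) (C R : List ℕ) (m : ℕ) : List ℕ := C ++ orth G R m

/-- An involution has no component at a far root. -/
noncomputable def farOk (G : Good D) (S C R : List ℕ) (m : ℕ) : Bool :=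
  match far G R m with
  | [] => true
  | [c'] => partOk G (S ++ keep G C R m) m c' && decide (m :: (keep G C R m ++ [c'])).Nodup &&
      (S ++ m :: keep G C R m).all fun x => (S ++ m :: keep G C R m).all (Inv.commOk G x)
  | _ => false

/-- The checks of a node and everything below it; `fin` is the check of a leaf. -/
noncomputable def treeOk (G : Good D) (P Q S : List ℕ) (fin : List ℕ → List ℕ → Bool) : ℕ → List ℕ → List ℕ → Tree → Bool
  | 0, C, R, .node w _ _ => R.isEmpty && fin C w
  | n + 1, C, R, .node w mv kt => fin C w &&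
      R.all (fun m => mv.any fun e => decide (e.1 = m) && symOk G P Q S C R e.2 &&
        kt.list.any fun k => decide (k.1 = image G.tab e.2 m)) &&
      kt.list.all fun k => R.contains k.1 && !C.contains k.1 &&
        (near G R k.1).all (pivOk G (pmRoots G P) S C R k.1) && farOk G S C R k.1 &&
        treeOk G P Q S fin n (C ++ [k.1]) (orth G R k.1) k.2
  | _, _, _, _ => false

variable (G : Good D) {F : Type*} [Field F] [CharP F 2]

/-- The classes of the elements of a subgroup. -/
noncomputable def clsSub (K : Subgroup (GL D.Idx F)) : Subgroup (Qg G F) :=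
  (K.subgroupOf (cen G F)).map (QuotientGroup.mk' _)

theorem cls_mem {K : Subgroup (GL D.Idx F)} {g : GL D.Idx F} (hK : g ∈ K) (hg : g ∈ cen G F) :
    cls G g ∈ clsSub G K :=
  ⟨⟨g, hg⟩, hK, by simp [cls, hg]⟩

theorem exists_cls {K : Subgroup (GL D.Idx F)} {x : Qg G F} (hx : x ∈ clsSub G K) :
    ∃ g ∈ K, g ∈ cen G F ∧ cls G g = x := by
  obtain ⟨⟨g, hg⟩, hK, rfl⟩ := hx
  exact ⟨g, hK, hg, by simp [cls, hg]⟩

theorem ng_mem_cen {r : ℕ} (h1 : zOk G r = true) (h2 : zOk G (D.neg r) = true) (c : F) : G.ng r c ∈ cen G F :=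
  mul_mem (mul_mem (xg_mem_cen G h1 _) (xg_mem_cen G h2 _)) (xg_mem_cen G h1 _)

theorem cls_ng_conj {i r : ℕ} (hi : i < D.rank) (h1 : zOk G (D.simple i) = true)
    (h2 : zOk G (D.neg (D.simple i)) = true) (hr : zOk G r = true) (t : F) :
    cls G (G.ng (D.simple i) (1 : F)) * xq G r t * (cls G (G.ng (D.simple i) 1))⁻¹ =
      xq G (G.tab.refl i r) t := by
  have hn := ng_mem_cen G (F := F) h1 h2 1
  have hrn : r < D.nroots := by simp only [zOk, Bool.and_eq_true, decide_eq_true_eq, ct_eq, pr_eq, ngb_eq, posB_eq] at hr; exact hr.1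
  have hx := xg_mem_cen G hr t
  rw [xq, xq, ← cls_inv G hn, ← cls_mul G hn hx, ← cls_mul G (mul_mem hn hx) (inv_mem hn)]
  congr 1
  rw [mul_inv_eq_iff_eq_mul, G.ng_simple_mul_xg hi hrn, G.refl_eq hi hrn]
  rcases G.eta_eq i r with h | h <;> rw [h] <;> simp [CharTwo.neg_eq]

theorem cls_prodX : ∀ {S : List ℕ}, (∀ s ∈ S, zOk G s = true) →
    Inv.prodX G S ∈ cen G F ∧ cls G (Inv.prodX G S : GL D.Idx F) = prodX G S
  | [], _ => ⟨by simp [Inv.prodX], by simp [Inv.prodX, prodX, cls_one]⟩
  | s :: S, h => by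
    obtain ⟨h1, h2⟩ := cls_prodX (S := S) fun x hx => h x (List.mem_cons_of_mem _ hx)
    have hm := xg_mem_cen G (h s List.mem_cons_self) (1 : F)
    rw [Inv.prodX_cons]
    exact ⟨mul_mem hm h1, by rw [cls_mul G hm h1, h2, prodX_cons]; rfl⟩

theorem cls_qP {Q : List ℕ} (hQ : qOk G Q = true) : ∀ (L : List ℕ), (∀ x ∈ L, x ∈ Q) → ∀ c : ℕ → F,
    Inv.qP G L c ∈ cen G F ∧ cls G (Inv.qP G L c) = qP G L c
  | [], _, c => ⟨by simp [Inv.qP], by simp [qP, Inv.qP, cls_one]⟩
  | x :: L, hL, c => by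
    obtain ⟨h1, h2⟩ := cls_qP hQ L (fun y hy => hL y (List.mem_cons_of_mem _ hy)) c
    have hm := xg_mem_cen G (q_zOk G hQ (hL x List.mem_cons_self)) (c x)
    rw [Inv.qP_cons]
    exact ⟨mul_mem hm h1, by rw [cls_mul G hm h1, h2, qP_cons]; rfl⟩

/-- Moving the last root by a conjugation. -/
theorem part_conj {S T : List ℕ} {c c' : ℕ} (hp : partOk G (S ++ T) c c' = true) (hc : zOk G c = true)
    (hc' : zOk G c' = true) (hS : ∀ s ∈ S ++ T, s < D.nroots)
    (hT : ∀ r ∈ T, zOk G r = true) (a : ℕ → F) (t s : F) :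
    G.xg c' t * (Inv.prodX G S * Inv.qP G (c :: T) a * G.xg (zr D) s) * (G.xg c' t)⁻¹ =
      Inv.prodX G S * Inv.qP G (c :: T) a * G.xg (zr D) (t * a c + s) := by
  have hcn : c < D.nroots := by simp only [zOk, Bool.and_eq_true, decide_eq_true_eq, ct_eq, pr_eq, ngb_eq, posB_eq] at hc; exact hc.1
  have hcn' : c' < D.nroots := by simp only [zOk, Bool.and_eq_true, decide_eq_true_eq, ct_eq, pr_eq, ngb_eq, posB_eq] at hc'; exact hc'.1
  simp only [partOk, Bool.and_eq_true, decide_eq_true_eq, List.all_eq_true, ct_eq, pr_eq, ngb_eq, posB_eq] at hp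
  obtain ⟨⟨⟨hne, hneg⟩, hcomm⟩, hterm⟩ := hp
  rcases hL : D.commTerms c' c with _ | ⟨⟨u, k, i, j⟩, L⟩
  · rw [hL] at hterm; simp at hterm
  rw [hL] at hterm
  obtain rfl : i = 1 := by rcases L with _ | ⟨_, _⟩ <;> rcases i with _ | _ | i <;> simp_all
  obtain rfl : j = 1 := by rcases L with _ | ⟨_, _⟩ <;> rcases j with _ | _ | j <;> simp_all
  obtain rfl : L = [] := by rcases L with _ | ⟨_, _⟩ <;> simp_all
  simp only [Bool.and_eq_true, decide_eq_true_eq] at hterm
  obtain ⟨rfl, hk⟩ := hterm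
  have hkF : (k : F) = 1 := by
    have h2 : (((k - 1 : ℤ)) : F) = 0 := (CharP.intCast_eq_zero_iff F 2 _).2 (by omega)
    push_cast at h2
    exact sub_eq_zero.1 h2
  have h := xg_mul_xg G hcn' hcn (Ne.symm hne) hneg hL t (a c)
  simp only [List.map_cons, List.map_nil, List.prod_cons, List.prod_nil, mul_one, pow_one, hkF, one_mul,
    CharTwo.neg_eq] at h
  have hz : ∀ (r : ℕ) (x y : F), zOk G r = true → Commute (G.xg r x) (G.xg (zr D) y) := fun r x y hr =>
    (Subgroup.mem_centralizer_iff.1 (xg_mem_cen G hr x) _ ⟨y, rfl⟩).symm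
  have hBA : G.xg c' t * G.xg c (a c) * (G.xg c' t)⁻¹ = G.xg c (a c) * G.xg (zr D) (t * a c) := by
    rw [mul_inv_eq_iff_eq_mul, mul_assoc, (hz c' t _ hc').symm.eq, ← mul_assoc, h,
      mul_assoc (_ * _) (G.xg (zr D) _), G.xg_add, CharTwo.add_self_eq_zero, G.xg_zero, mul_one]
  have hcS : Commute (G.xg c' t) (Inv.prodX G S : GL D.Idx F) := Commute.list_prod_right _ _ fun x hx => by
    obtain ⟨r, hr, rfl⟩ := List.mem_map.1 hx
    exact Inv.commute_of_ok G hcn' (hS r (List.mem_append_left _ hr)) (hcomm r (List.mem_append_left _ hr)) t 1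
  have hcT : Commute (G.xg c' t) (Inv.qP G T a) := Commute.list_prod_right _ _ fun x hx => by
    obtain ⟨r, hr, rfl⟩ := List.mem_map.1 hx
    exact Inv.commute_of_ok G hcn' (hS r (List.mem_append_right _ hr)) (hcomm r (List.mem_append_right _ hr)) t (a r)
  have hzT : Commute (G.xg (zr D) (t * a c)) (Inv.qP G T a) := Commute.list_prod_right _ _ fun x hx => by
    obtain ⟨r, hr, rfl⟩ := List.mem_map.1 hx
    exact (hz r (a r) _ (hT r hr)).symm
  rw [Inv.qP_cons, show G.xg c' t * (Inv.prodX G S * (G.xg c (a c) * Inv.qP G T a) * G.xg (zr D) s) * (G.xg c' t)⁻¹ =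
    (G.xg c' t * Inv.prodX G S * (G.xg c' t)⁻¹) * ((G.xg c' t * G.xg c (a c) * (G.xg c' t)⁻¹) *
      (G.xg c' t * Inv.qP G T a * (G.xg c' t)⁻¹)) * (G.xg c' t * G.xg (zr D) s * (G.xg c' t)⁻¹) by group,
    hcS.eq, mul_inv_cancel_right, hBA, hcT.eq, mul_inv_cancel_right, (hz c' t s hc').eq, mul_inv_cancel_right,
    mul_assoc (G.xg c (a c)), hzT.eq, ← mul_assoc (G.xg c (a c)), ← mul_assoc, mul_assoc _ _ (G.xg (zr D) s),
    G.xg_add]

theorem eq_zero_of_xg_eq_one {r : ℕ} (hr : r < D.nroots) {t : F} (h : G.xg r t = (1 : GL D.Idx F)) : t = 0 :=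
  (G.xg_eq_one_iff hr t).1 h

variable {Q : List ℕ} (hQ : qOk G Q = true) (hnd : Q.Nodup)
include hQ hnd

/-- Conjugation by a simple reflection in coordinates. -/
theorem refl_qP {P S C R : List ℕ} {i : ℕ} {w : List ℕ} (hw : symOk G P Q S C R (i :: w) = true)
    (hS : ∀ s ∈ S, zOk G s = true) (a : ℕ → F) :
    cls G (G.ng (D.simple i) (1 : F)) * (prodX G S * qP G Q a) * (cls G (G.ng (D.simple i) 1))⁻¹ =
      prodX G S * qP G Q (fun t => a (G.tab.refl i t)) := by
  simp only [symOk, List.all_cons, Bool.and_eq_true, decide_eq_true_eq, List.all_eq_true,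
    List.contains_iff_mem, ngb_eq] at hw
  obtain ⟨⟨⟨⟨⟨⟨⟨hi, -⟩, h1⟩, h2⟩, hfix⟩, hQQ⟩, -⟩, -⟩ := hw
  set n := cls G (G.ng (D.simple i) (1 : F)) with hn
  have hpre : ∀ L : List ℕ, (∀ x ∈ L, x ∈ S) → n * prodX G L * n⁻¹ = prodX G L := by
    intro L hL
    induction L with
    | nil => simp [prodX]
    | cons r L ih =>
      have hr := hL r List.mem_cons_self
      rw [prodX_cons, show ∀ x y z : Qg G F, x * (y * z) * x⁻¹ = (x * y * x⁻¹) * (x * z * x⁻¹) by intros; group,
        ih fun x hx => hL x (List.mem_cons_of_mem _ hx), hn, cls_ng_conj G hi h1 h2 (hS r hr),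
        hfix r (List.mem_append_left _ hr)]
  have hq : ∀ L : List ℕ, (∀ x ∈ L, x ∈ Q) →
      n * qP G L a * n⁻¹ = qP G (L.map (G.tab.refl i)) (fun t => a (G.tab.refl i t)) := by
    intro L hL
    induction L with
    | nil => simp [qP]
    | cons r L ih =>
      have hr := hL r List.mem_cons_self
      rw [qP_cons, show ∀ x y z : Qg G F, x * (y * z) * x⁻¹ = (x * y * x⁻¹) * (x * z * x⁻¹) by intros; group,
        ih fun x hx => hL x (List.mem_cons_of_mem _ hx), hn, cls_ng_conj G hi h1 h2 (q_zOk G hQ hr), List.map_cons,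
        qP_cons, (hQQ r hr).2]
  have hperm : (Q.map (G.tab.refl i)).Perm Q := by
    refine (List.perm_ext_iff_of_nodup (hnd.map_on fun x hx y hy e => ?_) hnd).2 fun x => ⟨?_, fun hx => ?_⟩
    · rw [← (hQQ x hx).2, e, (hQQ y hy).2]
    · intro hx
      obtain ⟨t, ht, rfl⟩ := List.mem_map.1 hx
      exact (hQQ t ht).1
    · exact List.mem_map.2 ⟨_, (hQQ x hx).1, (hQQ x hx).2⟩
  rw [show n * (prodX G S * qP G Q a) * n⁻¹ = (n * prodX G S * n⁻¹) * (n * qP G Q a * n⁻¹) by group,
    hpre S fun _ h => h, hq Q fun _ h => h, qP_perm G hQ (L' := Q)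
      (fun x hx => by obtain ⟨t, ht, rfl⟩ := List.mem_map.1 hx; exact (hQQ t ht).1) hperm]

/-- A sequence of reflections moves the coefficient at `m` to the image of `m`. -/
theorem sym_apply {P S C R : List ℕ} {K : Subgroup (GL D.Idx F)}
    (hK : ∀ i, P.contains (D.simple i) = true → G.ng (D.simple i) (1 : F) ∈ K) (hS : ∀ s ∈ S, zOk G s = true)
    (hRQ : ∀ x ∈ R, x ∈ Q) (hCQ : ∀ x ∈ C, x ∈ Q) :
    ∀ (w : List ℕ), symOk G P Q S C R w = true → ∀ (m : ℕ), m ∈ R → ∀ a : ℕ → F, a m ≠ 0 →
      (∀ u ∈ Q, u ∉ C → u ∉ R → a u = 0) →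
      ∃ k ∈ clsSub G K, ∃ a' : ℕ → F, k * (prodX G S * qP G Q a) * k⁻¹ = prodX G S * qP G Q a' ∧
        a' (image G.tab w m) ≠ 0 ∧ (∀ c ∈ C, a' c = a c) ∧ ∀ u ∈ Q, u ∉ C → u ∉ R → a' u = 0
  | [], _, m, _, a, ham, hsup => ⟨1, one_mem _, a, by simp, ham, fun _ _ => rfl, hsup⟩
  | i :: w, hw, m, hm, a, ham, hsup => by
    have hw0 := hw
    simp only [symOk, List.all_cons, Bool.and_eq_true, decide_eq_true_eq, List.all_eq_true,
      List.contains_iff_mem, ngb_eq] at hw
    obtain ⟨⟨⟨⟨⟨⟨⟨hi, hP⟩, h1⟩, h2⟩, hfix⟩, hQQ⟩, hRR⟩, hrest⟩ := hw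
    have hwt : symOk G P Q S C R w = true := by
      simp only [symOk, List.all_cons, Bool.and_eq_true, ct_eq, pr_eq, ngb_eq, posB_eq] at hw0 ⊢
      exact hw0.2
    set σ := G.tab.refl i with hσ
    have hfixC : ∀ c ∈ C, σ c = c := fun c hc => hfix c (List.mem_append_right _ hc)
    obtain ⟨k, hk, a2, e, g1, g2, g3⟩ := sym_apply hK hS hRQ hCQ w hwt (σ m) (hRR m hm) (fun t => a (σ t))
      (by rwa [(hQQ m (hRQ m hm)).2])
      (fun u hu huC huR => by
        refine hsup (σ u) (hQQ u hu).1 (fun h => huC ?_) (fun h => huR ?_)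
        · have := (hQQ u hu).2
          rw [← this, hfixC _ h]; exact h
        · have := (hQQ u hu).2
          rw [← this]; exact hRR _ h)
    refine ⟨k * cls G (G.ng (D.simple i) 1), mul_mem hk (cls_mem G (hK i (List.contains_iff_mem.2 hP))
      (ng_mem_cen G h1 h2 _)), a2, ?_, g1, fun c hc => by rw [g2 c hc, hfixC c hc], g3⟩
    rw [← e, ← refl_qP G hQ hnd hw0 hS a]
    group

omit hnd in
/-- All lifts of a conjugate square to one. -/
theorem lift_sq {K : Subgroup (GL D.Idx F)} {X Y : Qg G F} (hX : ∀ g ∈ cen G F, cls G g = X → g * g = 1)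
    {k : Qg G F} (hk : k ∈ clsSub G K) (e : k * X * k⁻¹ = Y) : ∀ g ∈ cen G F, cls G g = Y → g * g = 1 := by
  intro g hg hgY
  obtain ⟨h, -, hc, rfl⟩ := exists_cls G hk
  have h1 := hX (h⁻¹ * g * h) (mul_mem (mul_mem (inv_mem hc) hg) hc) (by
    rw [cls_mul G (mul_mem (inv_mem hc) hg) hc, cls_mul G (inv_mem hc) hg, cls_inv G hc, hgY, ← e]
    group)
  calc g * g = h * (h⁻¹ * g * h * (h⁻¹ * g * h)) * h⁻¹ := by group
    _ = 1 := by rw [h1]; group

/-- An involution has no component at a far root. -/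
theorem far_zero {S C R : List ℕ} {m : ℕ} (hS : ∀ s ∈ S, zOk G s = true) (hfar : farOk G S C R m = true)
    (hC : ∀ x ∈ C, x ∈ Q) (hR : ∀ x ∈ R, x ∈ Q) (hm : m ∈ R) {a : ℕ → F} (ham : a m ≠ 0)
    (hsup : ∀ u ∈ Q, u ∉ C → u ∉ R → a u = 0) (hnear : ∀ x ∈ near G R m, a x = 0)
    (hsq : ∀ g ∈ cen G F, cls G g = prodX G S * qP G Q a → g * g = 1) : ∀ x ∈ far G R m, a x = 0 := by
  unfold farOk at hfar
  match hF : far G R m, hfar with
  | [], _ => exact fun x hx => absurd hx List.not_mem_nil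
  | [c'], hfar =>
    intro x hx
    obtain rfl := List.mem_singleton.1 hx
    simp only [Bool.and_eq_true, decide_eq_true_eq, List.all_eq_true] at hfar
    obtain ⟨⟨hpart, hnodup⟩, hcomm⟩ := hfar
    set M := m :: keep G C R m with hM
    have hmQ : m ∈ Q := hR m hm
    have hxQ : x ∈ Q := hR x (List.mem_filter.1 (hF ▸ List.mem_singleton_self x : x ∈ far G R m)).1
    have hMQ : ∀ r ∈ M, r ∈ Q := fun r hr => by
      rcases List.mem_cons.1 hr with rfl | hr
      · exact hmQ
      · rcases List.mem_append.1 hr with h | h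
        exacts [hC r h, hR r (List.mem_filter.1 h).1]
    have hallQ : ∀ r ∈ M ++ [x], r ∈ Q := fun r hr => by
      rcases List.mem_append.1 hr with h | h
      exacts [hMQ r h, List.mem_singleton.1 h ▸ hxQ]
    have hq : qP G Q a = qP G (M ++ [x]) a := by
      rw [qP_drop G a (fun r => (M ++ [x]).contains r) fun u hu hu' => ?_]
      · refine qP_perm G hQ (fun y hy => (List.mem_filter.1 hy).1) ?_ a
        refine (List.perm_ext_iff_of_nodup (hnd.filter _) hnodup).2 fun y => ?_
        simp only [List.mem_filter, List.contains_iff_mem]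
        exact ⟨And.right, fun hy => ⟨hallQ y hy, hy⟩⟩
      · have hu2 : u ∉ M ++ [x] := by simpa using hu'
        simp only [hM, keep, List.cons_append, List.mem_cons, List.mem_append, List.not_mem_nil, or_false,
          not_or] at hu2
        obtain ⟨hum, ⟨huC, huo⟩, hux⟩ := hu2
        by_cases huR : u ∈ R
        · by_cases h1 : D.pairing m u = 1
          · exact hnear u (List.mem_filter.2 ⟨huR, by simp [hum, h1, pr_eq]⟩)
          · simp only [orth, List.mem_filter, huR, true_and, Bool.and_eq_true, decide_eq_true_eq, not_and, ct_eq, pr_eq, ngb_eq, posB_eq] at huo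
            have : u ∈ far G R m := List.mem_filter.2 ⟨huR, by simp [hum, h1, huo hum, pr_eq]⟩
            rw [hF, List.mem_singleton] at this
            exact absurd this hux
        · exact hsup u hu huC huR
    have hSn : ∀ r ∈ S ++ M, r < D.nroots := fun r hr => by
      rcases List.mem_append.1 hr with h | h
      · have := hS r h
        simp only [zOk, Bool.and_eq_true, decide_eq_true_eq, ct_eq, pr_eq, ngb_eq, posB_eq] at this
        exact this.1
      · exact q_lt G hQ (hMQ r h)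
    have hxz := q_zOk G hQ hxQ
    have hSM : Inv.prodX G S * Inv.qP G M a ∈ cen G F ∧
        cls G (Inv.prodX G S * Inv.qP G M a) = prodX G S * qP G M a := by
      obtain ⟨h1, h2⟩ := cls_prodX G (F := F) hS
      obtain ⟨h3, h4⟩ := cls_qP G hQ M hMQ a
      exact ⟨mul_mem h1 h3, by rw [cls_mul G h1 h3, h2, h4]⟩
    set A := Inv.prodX G S * Inv.qP G M a with hA
    set B := G.xg x (a x) with hB
    have hBc := xg_mem_cen G hxz (a x)
    have hg : A * B * (A * B) = 1 := hsq _ (mul_mem hSM.1 hBc) (by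
      rw [cls_mul G hSM.1 hBc, hSM.2, hq, mul_assoc]
      simp [qP, hB, xq])
    have hA2 : A * A = 1 := by
      have hc : ∀ r ∈ S ++ M, ∀ s ∈ S ++ M, ∀ t u : F, Commute (G.xg r t) (G.xg s u) := fun r hr s hs t u =>
        Inv.commute_of_ok G (hSn r hr) (hSn s hs) (hcomm r hr s hs) t u
      have key : ∀ (L : List (ℕ × F)), (∀ p ∈ L, p.1 ∈ S ++ M) →
          (L.map fun p => G.xg p.1 p.2).prod * (L.map fun p => G.xg p.1 p.2).prod = 1 := by
        intro L hL
        induction L with
        | nil => simp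
        | cons p L ih =>
          have ih' := ih fun q hq => hL q (List.mem_cons_of_mem _ hq)
          have hcp : Commute (G.xg p.1 p.2) (L.map fun p => G.xg p.1 p.2).prod :=
            Commute.list_prod_right _ _ fun y hy => by
              obtain ⟨q, hq, rfl⟩ := List.mem_map.1 hy
              exact hc _ (hL p List.mem_cons_self) _ (hL q (List.mem_cons_of_mem _ hq)) _ _
          rw [List.map_cons, List.prod_cons, mul_assoc, ← mul_assoc ((L.map _).prod), ← hcp.eq,
            mul_assoc (G.xg p.1 p.2) ((L.map _).prod), ih', mul_one, G.xg_add, CharTwo.add_self_eq_zero, G.xg_zero]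
      have := key (S.map (fun r => (r, (1 : F))) ++ M.map (fun r => (r, a r))) (fun p hp => by
        simp only [List.mem_append, List.mem_map] at hp ⊢
        rcases hp with ⟨r, hr, rfl⟩ | ⟨r, hr, rfl⟩
        exacts [Or.inl hr, Or.inr hr])
      simpa [hA, Inv.prodX, Inv.qP, List.map_map, Function.comp_def] using this
    have hconj : B * A * B⁻¹ = A * G.xg (zr D) (a x * a m) := by
      have h := part_conj G (S := S) (T := keep G C R m) (c := m) hpart (q_zOk G hQ hmQ) hxz
        (fun r hr => hSn r (by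
          rcases List.mem_append.1 hr with h | h
          exacts [List.mem_append_left _ h, List.mem_append_right _ (List.mem_cons_of_mem _ h)]))
        (fun r hr => q_zOk G hQ (hMQ r (List.mem_cons_of_mem _ hr))) a (a x) 0
      simpa [G.xg_zero, hA, hB, hM, mul_assoc] using h
    have hz : G.xg (zr D) (a x * a m) = 1 := by
      have hBB : B⁻¹ = B := by rw [hB, G.xg_inv, CharTwo.neg_eq]
      rw [hBB] at hconj
      calc G.xg (zr D) (a x * a m) = (A * A) * G.xg (zr D) (a x * a m) := by rw [hA2, one_mul]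
        _ = A * (B * A * B) := by rw [mul_assoc, hconj]
        _ = 1 := by rw [← hg]; group
    by_contra hx0
    exact mul_ne_zero hx0 ham (eq_zero_of_xg_eq_one G (show zr D < D.nroots by have := q_lt G hQ hmQ; unfold zr; omega) hz)
  | _ :: _ :: _, hfar => exact absurd hfar Bool.false_ne_true

variable (hord : Q = (List.range' (D.nroots / 2) (D.nroots - D.nroots / 2)).filter (fun r => Q.contains r))
include hord

/-- Every element is conjugate to one supported on a leaf of the tree. -/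
theorem tree_reduce {P S : List ℕ} {fin : List ℕ → List ℕ → Bool}
    (hDs : ∀ d ∈ pmRoots G P, shiftOk G d Q = true) (hSn : ∀ s ∈ S, zOk G s = true)
    {K : Subgroup (GL D.Idx F)} (hK : ∀ d ∈ pmRoots G P, ∀ z : F, G.xg d z ∈ K)
    (hKn : ∀ i, P.contains (D.simple i) = true → G.ng (D.simple i) (1 : F) ∈ K) :
    ∀ (n : ℕ) (C R : List ℕ) (t : Tree), C.Nodup → treeOk G P Q S fin n C R t = true → (∀ x ∈ C, x ∈ Q) →
      (∀ x ∈ R, x ∈ Q) → (∀ c ∈ C, c ∉ R) → ∀ a : ℕ → F, (∀ c ∈ C, a c ≠ 0) →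
      (∀ u ∈ Q, u ∉ C → u ∉ R → a u = 0) →
      (∀ g ∈ cen G F, cls G g = prodX G S * qP G Q a → g * g = 1) →
      ∃ T w, fin T w = true ∧ ∃ k ∈ clsSub G K, ∃ a' : ℕ → F,
        k * (prodX G S * qP G Q a) * k⁻¹ = prodX G S * qP G Q a' ∧
        T.Nodup ∧ (∀ c ∈ T, c ∈ Q ∧ a' c ≠ 0) ∧ ∀ u ∈ Q, u ∉ T → a' u = 0
  | 0, C, R, .node w _ _, hCn, hok, hC, _, _, a, haC, hsup, _ => by
    simp only [treeOk, Bool.and_eq_true, List.isEmpty_iff, ct_eq, pr_eq, ngb_eq, posB_eq] at hok
    obtain ⟨rfl, hf⟩ := hok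
    exact ⟨C, w, hf, 1, one_mem _, a, by simp, hCn, fun c hc => ⟨hC c hc, haC c hc⟩,
      fun u hu huT => hsup u hu huT (by simp)⟩
  | n + 1, C, R, .node w mv kt, hCn, hok, hC, hR, hCR, a, haC, hsup, hsq => by
    simp only [treeOk, Bool.and_eq_true, List.all_eq_true, List.any_eq_true, decide_eq_true_eq,
      List.contains_iff_mem, Bool.not_eq_true', List.contains_eq_mem, decide_eq_false_iff_not] at hok
    obtain ⟨⟨hf, hmv⟩, hkids⟩ := hok
    by_cases hall : ∀ x ∈ R, a x = 0
    · refine ⟨C, w, hf, 1, one_mem _, a, by simp, hCn, fun c hc => ⟨hC c hc, haC c hc⟩, fun u hu huT => ?_⟩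
      by_cases huR : u ∈ R
      · exact hall u huR
      · exact hsup u hu huT huR
    · push Not at hall
      obtain ⟨m0, hm0, ham0⟩ := hall
      obtain ⟨e, -, ⟨rfl, hsym⟩, ⟨m, t⟩, hkm, hmk⟩ := hmv m0 hm0
      simp only at hmk
      obtain ⟨⟨⟨⟨hm, hmC⟩, hpiv⟩, hfar⟩, hrec⟩ := hkids (m, t) hkm
      simp only at hm hmC hpiv hfar hrec
      obtain ⟨k0, hk0, a0, e0, h0, hC0, hsup0⟩ := sym_apply G hQ hnd hKn hSn hR hC _ hsym e.1 hm0 a ham0 hsup
      rw [← hmk] at h0
      obtain ⟨k, hk, a1, e1, g1, g2, g3, g4⟩ := pivot_all G hQ hnd hord hDs hSn (List.all_eq_true.2 hpiv) hR hm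
        (K := clsSub G K) (fun d hd z => cls_mem G (hK d hd z) (xg_mem_cen G (by
          have := hDs d hd
          simp only [shiftOk, Bool.and_eq_true, ct_eq, pr_eq, ngb_eq, posB_eq] at this
          exact this.1) z)) hCR
        (near G R m) (fun _ h => h) a0 h0 hsup0 (fun x hx hx' => absurd hx hx')
      have hsq0 := lift_sq G hQ hsq hk0 e0
      have hsq1 := lift_sq G hQ hsq0 hk e1
      have hfar0 : ∀ x ∈ far G R m, a1 x = 0 := fun x hx =>
        far_zero G hQ hnd hSn hfar hC hR hm g1 g3 g4 hsq1 x hx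
      have hmem : ∀ x, x ∈ orth G R m → x ∈ R ∧ x ≠ m := fun x hx => by
        simp only [orth, List.mem_filter, Bool.and_eq_true, decide_eq_true_eq, ct_eq, pr_eq, ngb_eq, posB_eq] at hx
        exact ⟨hx.1, hx.2.1⟩
      obtain ⟨T, w', hf', k', hk', a2, e2, q1, q2, q3⟩ := tree_reduce hDs hSn hK hKn n (C ++ [m]) (orth G R m) t
        (List.nodup_append.2 ⟨hCn, by simp, fun x hx y hy => by simp at hy; subst hy; exact fun e => hmC (e ▸ hx)⟩)
        hrec
        (fun x hx => by simp at hx; rcases hx with h | rfl; exacts [hC x h, hR x hm])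
        (fun x hx => hR x (hmem x hx).1)
        (fun c hc hcR => by
          simp at hc
          rcases hc with h | rfl
          · exact hCR c h (hmem c hcR).1
          · exact (hmem c hcR).2 rfl)
        a1 (fun c hc => by
          simp at hc
          rcases hc with h | rfl
          · rw [g2 c (hC c h) h, hC0 c h]; exact haC c h
          · exact g1)
        (fun u hu huC huR => by
          simp only [List.mem_append, List.mem_singleton, not_or] at huC
          by_cases huR' : u ∈ R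
          · simp only [orth, List.mem_filter, huR', true_and, Bool.and_eq_true, decide_eq_true_eq, not_and, ct_eq, pr_eq, ngb_eq, posB_eq] at huR
            by_cases h1 : D.pairing m u = 1
            · exact g4 u (List.mem_filter.2 ⟨huR', by simp [huC.2, h1, pr_eq]⟩)
            · exact hfar0 u (List.mem_filter.2 ⟨huR', by simp [huC.2, h1, huR huC.2, pr_eq]⟩)
          · exact g3 u hu huC.1 huR')
        (hsq1)
      refine ⟨T, w', hf', k' * k * k0, mul_mem (mul_mem hk' hk) hk0, a2, ?_, q1, q2, q3⟩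
      rw [← e2, ← e1, ← e0]
      group
  | 0, _, _, .nil, _, hok, _, _, _, _, _, _, _ => by simp [treeOk] at hok
  | 0, _, _, .cons .., _, hok, _, _, _, _, _, _, _ => by simp [treeOk] at hok
  | _ + 1, _, _, .nil, _, hok, _, _, _, _, _, _, _ => by simp [treeOk] at hok
  | _ + 1, _, _, .cons .., _, hok, _, _, _, _, _, _, _ => by simp [treeOk] at hok

end Cfsg.Agent.H65.Inv.Z
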