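import Cfsg.Agent.H65.Inv.Z.Quo

/-!
Products of commuting root elements modulo the last root, in coordinates.
-/

set_option autoImplicit false
set_option linter.unusedSectionVars false

open Cfsg.Lie Cfsg.Agent.H46

namespace Cfsg.Agent.H65.Inv.Z

variable {D : ChevalleyDatum} (G : Good D) {F : Type*} [Field F] [CharP F 2]

/-- A product of root elements with given coefficients. -/
noncomputable def qP (L : List ℕ) (a : ℕ → F) : Qg G F := (L.map fun r => xq G r (a r)).prod

theorem qP_cons (r : ℕ) (L : List ℕ) (a : ℕ → F) : qP G (r :: L) a = xq G r (a r) * qP G L a := by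
  simp [qP]

theorem qP_congr {L : List ℕ} {a b : ℕ → F} (h : ∀ r ∈ L, a r = b r) : qP G L a = qP G L b := by
  unfold qP
  rw [List.map_congr_left fun r hr => by rw [h r hr]]

theorem qP_zero (L : List ℕ) : qP G L (fun _ => (0 : F)) = 1 := by
  simp [qP, xq_zero G]

theorem qP_drop {L : List ℕ} (a : ℕ → F) (p : ℕ → Bool) (h : ∀ r ∈ L, p r = false → a r = 0) :
    qP G L a = qP G (L.filter p) a := by
  induction L with
  | nil => rfl
  | cons r L ih =>
    have ih' := ih fun x hx => h x (List.mem_cons_of_mem _ hx)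
    rw [qP_cons, List.filter_cons]
    cases hp : p r with
    | true => simp only [if_true]; rw [qP_cons, ih']
    | false =>
      rw [h r List.mem_cons_self hp, xq_zero G, one_mul, ih']
      rfl

/-- Shifted roots stay in `Q`. -/
theorem sh_mem {d : ℕ} {Q : List ℕ} (hd : shiftOk G d Q = true) {t w : ℕ} (ht : t ∈ Q) (htd : t ≠ d)
    (hs : sh G d t = some w) : w ∈ Q := by
  simp only [shiftOk, Bool.and_eq_true, decide_eq_true_eq, List.all_eq_true, Bool.or_eq_true, ct_eq, pr_eq, ngb_eq, posB_eq] at hd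
  have h2 := (hd.2 t ht).2
  simp only [sh, ct_eq, pr_eq, ngb_eq, posB_eq] at hs
  rcases hL : D.commTerms d t with _ | ⟨⟨x, c, i, j⟩, L⟩
  · rw [hL] at hs; simp at hs
  · rw [hL] at hs h2
    simp only [List.head?_cons, Option.map_some, Option.bind_some] at hs
    split_ifs at hs with hx
    simp only [Option.some.injEq] at hs
    subst hs
    rcases h2 with (h | h) | h
    · exact absurd h htd
    · exact absurd (h _ List.mem_cons_self) hx
    · obtain rfl : i = 1 := by rcases L with _ | ⟨_, _⟩ <;> rcases i with _ | _ | i <;> simp_all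
      obtain rfl : j = 1 := by rcases L with _ | ⟨_, _⟩ <;> rcases j with _ | _ | j <;> simp_all
      obtain rfl : L = [] := by rcases L with _ | ⟨_, _⟩ <;> simp_all
      simp only [Bool.and_eq_true, List.contains_iff_mem] at h
      exact h.1.1.1

variable {Q : List ℕ} (hQ : qOk G Q = true)
include hQ

theorem q_lt {r : ℕ} (hr : r ∈ Q) : r < D.nroots := by
  simp only [qOk, List.all_eq_true, Bool.and_eq_true, decide_eq_true_eq, ct_eq, pr_eq, ngb_eq, posB_eq] at hQ
  exact (hQ r hr).1.1.1.1

theorem q_zOk {r : ℕ} (hr : r ∈ Q) : zOk G r = true := by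
  simp only [qOk, List.all_eq_true, Bool.and_eq_true, decide_eq_true_eq, ct_eq, pr_eq, ngb_eq, posB_eq] at hQ
  exact (hQ r hr).1.2

theorem q_pos {r : ℕ} (hr : r ∈ Q) : D.IsPosRoot r := by
  simp only [qOk, List.all_eq_true, Bool.and_eq_true, decide_eq_true_eq, ct_eq, pr_eq, ngb_eq, posB_eq] at hQ
  exact (hQ r hr).1.1.1

theorem q_commute {r s : ℕ} (hr : r ∈ Q) (hs : s ∈ Q) (t u : F) : Commute (xq G r t) (xq G s u) := by
  refine commute_of_ok G (q_zOk G hQ hr) (q_zOk G hQ hs) ?_ t u
  simp only [qOk, List.all_eq_true, Bool.and_eq_true, decide_eq_true_eq, ct_eq, pr_eq, ngb_eq, posB_eq] at hQ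
  exact (hQ r hr).2 s hs

theorem q_commute_qP {L : List ℕ} (hL : ∀ x ∈ L, x ∈ Q) {r : ℕ} (hr : r ∈ Q) (t : F) (a : ℕ → F) :
    Commute (xq G r t) (qP G L a) := by
  refine Commute.list_prod_right _ _ fun x hx => ?_
  obtain ⟨s, hs, rfl⟩ := List.mem_map.1 hx
  exact q_commute G hQ hr (hL s hs) _ _

theorem qP_commute {L L' : List ℕ} (hL : ∀ x ∈ L, x ∈ Q) (hL' : ∀ x ∈ L', x ∈ Q) (a b : ℕ → F) :
    Commute (qP G L a) (qP G L' b) := by
  refine Commute.list_prod_left _ _ fun x hx => ?_
  obtain ⟨s, hs, rfl⟩ := List.mem_map.1 hx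
  exact q_commute_qP G hQ hL' (hL s hs) _ _

theorem qP_mul {L : List ℕ} (hL : ∀ x ∈ L, x ∈ Q) (a b : ℕ → F) : qP G L a * qP G L b = qP G L (a + b) := by
  induction L with
  | nil => simp [qP]
  | cons r L ih =>
    have hr : r ∈ Q := hL r List.mem_cons_self
    have hL' : ∀ x ∈ L, x ∈ Q := fun x hx => hL x (List.mem_cons_of_mem _ hx)
    rw [qP_cons, qP_cons, qP_cons, ← ih hL', Pi.add_apply, ← xq_add G (q_zOk G hQ hr)]
    simp only [mul_assoc]
    rw [← mul_assoc (qP G L a), ← (q_commute_qP G hQ hL' hr (b r) a).eq]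
    simp only [mul_assoc]

theorem qP_perm {L L' : List ℕ} (hL : ∀ x ∈ L, x ∈ Q) (h : L.Perm L') (a : ℕ → F) : qP G L a = qP G L' a := by
  refine (h.map _).prod_eq' (List.pairwise_map.2 (List.Pairwise.imp_of_mem ?_ (List.pairwise_of_forall (R := fun _ _ => True) fun _ _ => trivial)))
  intro x y hx hy _
  exact q_commute G hQ (hL x hx) (hL y hy) _ _

/-- A single root element as a product over `Q`. -/
theorem qP_single (hnd : Q.Nodup) {r : ℕ} (hr : r ∈ Q) (c : F) :
    qP G Q (fun x => if x = r then c else 0) = xq G r c := by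
  rw [qP_perm G hQ (fun _ h => h) (List.perm_cons_erase hr), qP_cons, if_pos rfl,
    qP_congr G (b := fun _ => (0 : F)) (fun x hx => if_neg fun e => (hnd.mem_erase_iff.1 (e ▸ hx)).1 rfl),
    qP_zero, mul_one]

/-- The effect of conjugation by `x_d(z)` on coefficients. -/
noncomputable def shF {F : Type*} [Field F] (Q : List ℕ) (d : ℕ) (a : ℕ → F) (u : ℕ) : F :=
  ((Q.filter fun t => decide (t ≠ d) && decide (sh G d t = some u)).map a).sum

/-- Conjugation by `x_d(z)` in coordinates. -/
theorem conj_qP (hnd : Q.Nodup) {d : ℕ} (hd : shiftOk G d Q = true) (z : F) (a : ℕ → F) :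
    xq G d z * qP G Q a * (xq G d z)⁻¹ = qP G Q (fun u => a u + z * shF G Q d a u) := by
  have key : ∀ L : List ℕ, (∀ x ∈ L, x ∈ Q) → xq G d z * qP G L a * (xq G d z)⁻¹ =
      qP G L a * qP G Q (fun u => z * ((L.filter fun t => decide (t ≠ d) && decide (sh G d t = some u)).map a).sum) := by
    intro L hL
    induction L with
    | nil =>
      simp only [List.filter_nil, List.map_nil, List.sum_nil, mul_zero, qP_zero]
      simp [qP]
    | cons r L ih =>
      have hr : r ∈ Q := hL r List.mem_cons_self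
      have hL' : ∀ x ∈ L, x ∈ Q := fun x hx => hL x (List.mem_cons_of_mem _ hx)
      obtain ⟨u0, e0, hu0⟩ : ∃ g : ℕ → F, xq G d z * xq G r (a r) * (xq G d z)⁻¹ = xq G r (a r) * qP G Q g ∧
          ∀ u, g u = if r ≠ d ∧ sh G d r = some u then z * a r else 0 := by
        refine ⟨fun u => if r ≠ d ∧ sh G d r = some u then z * a r else 0, ?_, fun _ => rfl⟩
        rw [conj_xq_shift G hQ hr hd z (a r)]
        cases hs : sh G d r with
        | none => simp [qP_zero]
        | some w =>
          rcases eq_or_ne r d with h | h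
          · subst h; simp [qP_zero]
          · have hwQ : w ∈ Q := sh_mem G hd hr h hs
            simp only [ne_eq, h, not_false_eq_true, true_and, if_false]
            rw [show (fun u => if some w = some u then z * a r else 0) = fun x => if x = w then z * a r else 0 by
              funext u; simp [eq_comm], qP_single G hQ hnd hwQ]
      rw [qP_cons, show xq G d z * (xq G r (a r) * qP G L a) * (xq G d z)⁻¹ =
        (xq G d z * xq G r (a r) * (xq G d z)⁻¹) * (xq G d z * qP G L a * (xq G d z)⁻¹) by group, e0, ih hL',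
        mul_assoc (xq G r (a r)), ← mul_assoc (qP G Q u0), (qP_commute G hQ (fun _ h => h) hL' u0 a).eq,
        mul_assoc (qP G L a), qP_mul G hQ (fun _ h => h), ← mul_assoc]
      congr 1
      refine qP_congr G fun u _ => ?_
      rw [Pi.add_apply, hu0]
      by_cases h : r ≠ d ∧ sh G d r = some u
      · rw [if_pos h, List.filter_cons, if_pos (by simp [h.1, h.2]), List.map_cons, List.sum_cons, mul_add]
      · rw [if_neg h, List.filter_cons, if_neg (by simpa using h), zero_add]
  rw [key Q fun _ h => h, qP_mul G hQ fun _ h => h]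
  exact qP_congr G fun u _ => rfl

/-- Coefficients are determined by the product. -/
theorem qP_inj (hord : Q = (List.range' (D.nroots / 2) (D.nroots - D.nroots / 2)).filter (fun r => Q.contains r))
    {a b : ℕ → F} (h : qP G Q a = qP G Q b) {r : ℕ} (hr : r ∈ Q) : a r = b r := by
  have hcls : ∀ L : List ℕ, (∀ x ∈ L, x ∈ Q) → ∀ c : ℕ → F,
      Inv.qP G L c ∈ cen G F ∧ qP G L c = cls G (Inv.qP G L c) := by
    intro L hL c
    induction L with
    | nil => exact ⟨by simp [Inv.qP], by simp [qP, Inv.qP, cls_one]⟩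
    | cons x L ih =>
      obtain ⟨h1, h2⟩ := ih fun y hy => hL y (List.mem_cons_of_mem _ hy)
      have hm := xg_mem_cen G (q_zOk G hQ (hL x List.mem_cons_self)) (c x)
      rw [Inv.qP_cons]
      exact ⟨mul_mem hm h1, by rw [qP_cons, h2, xq, cls_mul G hm h1]⟩
  rw [(hcls Q (fun _ h => h) a).2, (hcls Q (fun _ h => h) b).2] at h
  obtain ⟨t, ht⟩ := cls_eq G (hcls Q (fun _ h => h) a).1 (hcls Q (fun _ h => h) b).1 h
  have hpos : 0 < D.nroots := lt_of_le_of_lt (Nat.zero_le _) (q_lt G hQ hr)
  set l := List.range' (D.nroots / 2) (D.nroots - D.nroots / 2) with hl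
  have hz : zr D ∉ Q := fun hzQ => by
    simp only [qOk, List.all_eq_true, Bool.and_eq_true, decide_eq_true_eq, ct_eq, pr_eq, ngb_eq, posB_eq] at hQ
    exact (hQ _ hzQ).1.1.2 rfl
  have hsplit : l = List.range' (D.nroots / 2) (D.nroots - D.nroots / 2 - 1) ++ [zr D] := by
    rw [hl, show D.nroots - D.nroots / 2 = (D.nroots - D.nroots / 2 - 1) + 1 by omega, List.range'_1_concat,
      show D.nroots / 2 + (D.nroots - D.nroots / 2 - 1) = zr D by unfold zr; omega]
    simp
  have key : ∀ (c : ℕ → F) (s : F), Inv.qP G Q c * G.xg (zr D) s =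
      G.ordProd (D.nroots / 2) (fun x => if x = zr D then s else if Q.contains x then c x else 0) := by
    intro c s
    set f := fun x => if x = zr D then s else if Q.contains x then c x else 0 with hf
    show _ = Inv.qP G l f
    have hQs : Q = (List.range' (D.nroots / 2) (D.nroots - D.nroots / 2 - 1)).filter fun x => Q.contains x := by
      conv_lhs => rw [hord, hsplit, List.filter_append]
      simp [hz]
    rw [hsplit, show ∀ A B : List ℕ, Inv.qP G (A ++ B) f = Inv.qP G A f * Inv.qP G B f from fun A B => by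
      simp [Inv.qP], show Inv.qP G [zr D] f = G.xg (zr D) s by simp [Inv.qP, hf],
      Inv.qP_drop G f (fun x => Q.contains x) fun x hx hx' => ?_]
    · conv_rhs => rw [← hQs]
      congr 1
      exact Inv.qP_congr G fun x hx => by
        simp only [hf]
        rw [if_neg (fun e : x = zr D => hz (e ▸ hx)), if_pos (List.contains_iff_mem.2 hx)]
    · simp only [hf]
      rw [if_neg ?_, hx']
      · rfl
      · simp only [List.mem_range'_1] at hx
        unfold zr; omega
  have e0 := key b 0
  rw [G.xg_zero, mul_one, ht, key a t] at e0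
  have hp := G.isPosRoot_iff.1 (q_pos G hQ hr)
  have := G.ordProd_injective _ le_rfl _ _ e0 r hp.1 hp.2
  simpa [hr, show r ≠ zr D from fun e => hz (e ▸ hr)] using this

end Cfsg.Agent.H65.Inv.Z
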